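import Cfsg.Agent.Lib.Perm.TwoA5.Count
import Cfsg.Agent.Lib.Perm.Sharp2

/-!
The permutation group induced on an invariant set.
-/

set_option autoImplicit false
set_option linter.style.haveILetI false
set_option linter.unusedSectionVars false

namespace Cfsg.Agent.TwoA5

open MulAction

variable {G : Type*} [Group G] {Ω : Type*} [MulAction G Ω]

namespace TwoOn

variable {L : Subgroup G} {F : Set Ω} (h : TwoOn L F)

/-- The permutation induced on the invariant set. -/
def rho : L →* Equiv.Perm F where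
  toFun g :=
    { toFun := fun x => ⟨(g : G) • (x : Ω), h.inv g g.2 x x.2⟩
      invFun := fun x => ⟨((g⁻¹ : L) : G) • (x : Ω), h.inv _ (g⁻¹ : L).2 x x.2⟩
      left_inv := fun x => Subtype.ext (inv_smul_smul (g : G) (x : Ω))
      right_inv := fun x => Subtype.ext (smul_inv_smul (g : G) (x : Ω)) }
  map_one' := Equiv.ext fun x => Subtype.ext (one_smul G (x : Ω))
  map_mul' g g' := Equiv.ext fun x => Subtype.ext (mul_smul (g : G) (g' : G) (x : Ω))

theorem rho_apply (g : L) (x : F) : ((h.rho g x : F) : Ω) = (g : G) • (x : Ω) := rfl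

/-- The induced group. -/
def img : Subgroup (Equiv.Perm F) := h.rho.range

theorem smul_img (g : L) (x : F) :
    (((⟨h.rho g, ⟨g, rfl⟩⟩ : h.img) • x : F) : Ω) = (g : G) • (x : Ω) := rfl

/-- An element of `L` as an element of the induced group. -/
def toImg : L →* h.img := h.rho.rangeRestrict

theorem toImg_smul (g : L) (x : F) : ((h.toImg g • x : F) : Ω) = (g : G) • (x : Ω) := rfl

theorem toImg_surjective : Function.Surjective h.toImg := h.rho.rangeRestrict_surjective

theorem toImg_eq_one {g : L} : h.toImg g = 1 ↔ ∀ x ∈ F, (g : G) • x = x := by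
  constructor
  · intro e x hx
    have := h.toImg_smul g ⟨x, hx⟩
    rw [e, one_smul] at this
    exact this.symm
  · intro e
    refine eq_of_smul_eq_smul fun x : F => Subtype.ext ?_
    rw [h.toImg_smul, one_smul]
    exact e x x.2

theorem img_two : ∀ a b c d : F, a ≠ b → c ≠ d → ∃ g : h.img, g • a = c ∧ g • b = d := by
  intro a b c d hab hcd
  obtain ⟨g, hg, h1, h2⟩ := h.two a a.2 b b.2 c c.2 d d.2 (fun e => hab (Subtype.ext e))
    (fun e => hcd (Subtype.ext e))
  exact ⟨h.toImg ⟨g, hg⟩, Subtype.ext h1, Subtype.ext h2⟩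

theorem img_stab {a b : F} {g : h.img} (ha : g • a = a) (hb : g • b = b) :
    ∃ g₀ : L, h.toImg g₀ = g ∧ (g₀ : G) • (a : Ω) = a ∧ (g₀ : G) • (b : Ω) = b := by
  obtain ⟨g₀, rfl⟩ := h.toImg_surjective g
  exact ⟨g₀, rfl, congrArg Subtype.val ha, congrArg Subtype.val hb⟩

end TwoOn

/-- Sharply doubly transitive on `F` forces a prime power number of points. -/
theorem TwoOn.prime_pow [Finite G] [Finite Ω] {L : Subgroup G} {F : Set Ω} (h : TwoOn L F) {a b : Ω}
    (ha : a ∈ F) (hb : b ∈ F) (hab : a ≠ b)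
    (hsharp : ∀ g ∈ L, g • a = a → g • b = b → ∀ x ∈ F, g • x = x) :
    ∃ p j : ℕ, p.Prime ∧ 1 ≤ j ∧ F.ncard = p ^ j := by
  classical
  obtain ⟨K, -, -, -, -, p, j, hp, hj, hcard, -⟩ := Cfsg.Agent.Perm.sharp2_kernel (G := h.img) (Ω := F)
    (by
      rw [Nat.card_coe_set_eq]
      exact (Set.one_lt_ncard_iff F.toFinite).2 ⟨a, b, ha, hb, hab⟩)
    h.img_two fun x y hxy g hx hy => by
      obtain ⟨k, hk1, hk2⟩ := h.img_two x y ⟨a, ha⟩ ⟨b, hb⟩ hxy (fun e => hab (congrArg Subtype.val e))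
      obtain ⟨g₀, hg₀, e1, e2⟩ := h.img_stab (g := k * g * k⁻¹) (a := ⟨a, ha⟩) (b := ⟨b, hb⟩)
        (by rw [← hk1, mul_smul, mul_smul, inv_smul_smul, hx])
        (by rw [← hk2, mul_smul, mul_smul, inv_smul_smul, hy])
      have : h.toImg g₀ = 1 := h.toImg_eq_one.2 (hsharp g₀ g₀.2 e1 e2)
      rw [this] at hg₀
      exact conj_eq_one_iff.1 hg₀.symm
  exact ⟨p, j, hp, hj, by rw [← Nat.card_coe_set_eq]; exact hcard⟩

end Cfsg.Agent.TwoA5
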