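import Mathlib

/-!
The degree equations for a doubly transitive group with two-point stabiliser `A₅`.
-/

set_option autoImplicit false

namespace Cfsg.Agent.TwoA5

/-- Test that one parameter triple has no solution. -/
def okb (m u i : ℕ) : Bool :=
  let n : ℤ := 15 + m * (u * u)
  let d : ℤ := (u + 1) * (u + 1)
  let a : ℤ := 4 * (n * (2 * i - 1)) - 16 * (d * (4 * i - 1))
  let c : ℤ := d * (4 * i - 1) * (4 * i - 3) - n * (2 * i - 1) * (2 * i - 1)
  let e : ℤ := ((i : ℤ) - 1) * ((i : ℤ) - 1) + 4 * (-c / a)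
  (m == 10 && u == 24) || (m == 16 && u == 30) ||
    if a = 0 then c != 0
    else if c % a != 0 then true
    else decide (e < 0) || (decide (e < 160000) && (List.range 400).all fun r => ((r * r : ℕ) : ℤ) != e)

theorem okb_all : ([10, 15, 16].all fun m => (List.range 33).all fun v => (List.range 51).all fun i =>
    v == 0 || i == 0 || (m == 10 && decide (v < 4)) || okb m (2 * v) i) = true := by
  decide +kernel

theorem table {m v i : ℕ} {j : ℤ} (hm : m = 10 ∨ m = 15 ∨ m = 16) (hv : v < 33) (hv0 : 1 ≤ v)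
    (hmv : m = 10 → 4 ≤ v) (hi : i < 51) (hi0 : 1 ≤ i) (hij : (i : ℤ) ≤ j)
    (he : (15 + (m : ℤ) * ((2 * v : ℕ) * (2 * v : ℕ))) * ((2 * i + 2 * j - 1) * (2 * i - 1) * (2 * j - 1)) =
      ((2 * v : ℕ) + 1) * ((2 * v : ℕ) + 1) * ((4 * i + 4 * j - 3) * (4 * i - 1) * (4 * j - 1))) :
    (m = 10 ∧ v = 12) ∨ (m = 16 ∧ v = 15) := by
  have h := okb_all
  simp only [List.all_eq_true, List.mem_range, Bool.or_eq_true, Bool.and_eq_true, beq_iff_eq,
    decide_eq_true_eq] at h
  have h1 := h m (by simp only [List.mem_cons, List.not_mem_nil, or_false]; exact hm) v hv i hi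
  rcases h1 with ((h1 | h1) | h1) | h1
  · omega
  · omega
  · have := hmv h1.1; omega
  · simp only [okb, Bool.or_eq_true, Bool.and_eq_true, beq_iff_eq] at h1
    rcases h1 with (h1 | h1) | h1
    · omega
    · omega
    · exfalso
      set n : ℤ := 15 + (m : ℤ) * (((2 * v : ℕ) : ℤ) * (2 * v : ℕ)) with hn
      set d : ℤ := (((2 * v : ℕ) : ℤ) + 1) * (((2 * v : ℕ) : ℤ) + 1) with hd
      set a : ℤ := 4 * (n * (2 * i - 1)) - 16 * (d * (4 * i - 1)) with ha
      set c : ℤ := d * (4 * i - 1) * (4 * i - 3) - n * (2 * i - 1) * (2 * i - 1) with hc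
      have key : -c = a * (j * (j + i - 1)) := by rw [ha, hc]; linear_combination -he
      by_cases ha0 : a = 0
      · rw [if_pos ha0, bne_iff_ne] at h1
        rw [ha0, zero_mul, neg_eq_zero] at key
        exact h1 key
      · rw [if_neg ha0] at h1
        have hdiv : -c / a = j * (j + i - 1) := by rw [key, Int.mul_ediv_cancel_left _ ha0]
        have hmod : c % a = 0 := Int.emod_eq_zero_of_dvd (Int.dvd_neg.1 ⟨_, key⟩)
        rw [if_neg (by simp [hmod]), hdiv] at h1
        have e : ((i : ℤ) - 1) * ((i : ℤ) - 1) + 4 * (j * (j + i - 1)) =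
            (2 * j + i - 1) * (2 * j + i - 1) := by ring
        rw [e] at h1
        simp only [Bool.or_eq_true, Bool.and_eq_true, decide_eq_true_eq, List.all_eq_true, List.mem_range,
          bne_iff_ne] at h1
        rcases h1 with h1 | ⟨h1, h2⟩
        · nlinarith
        · obtain ⟨r, hr⟩ := Int.eq_ofNat_of_zero_le (show (0 : ℤ) ≤ 2 * j + i - 1 by omega)
          rw [hr] at h1 h2
          have hr4 : r < 400 := by
            by_contra hc
            push Not at hc
            have : (400 : ℤ) ≤ r := by exact_mod_cast hc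
            nlinarith
          exact h2 r hr4 (by push_cast; ring)

/-- The two shapes of `15 + m f = k² (4s-1) (2s-1)`. -/
theorem case_a {m u f w k s : ℤ} (hm : m = 1 ∨ m = 10 ∨ m = 15 ∨ m = 16) (hu : 2 ≤ u) (hue : 2 ∣ u)
    (hf : (w = 1 ∧ f = u) ∨ (w = u + 1 ∧ f = u * u) ∨ (w = 2 * u + 1 ∧ f = u * (2 * u - 1)))
    (hk : 1 ≤ k) (hs : 1 ≤ s) (hw : w = k * s) (he : 15 + m * f = k * k * ((4 * s - 1) * (2 * s - 1))) :
    m = 10 ∧ u = 2 ∧ (f = 4 ∨ f = 6) := by
  rcases hf with ⟨rfl, rfl⟩ | ⟨rfl, rfl⟩ | ⟨rfl, rfl⟩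
  · have hk1 : k = 1 := le_antisymm (by nlinarith) hk
    subst hk1
    have hs1 : s = 1 := by linarith
    subst hs1
    rcases hm with rfl | rfl | rfl | rfl <;> omega
  · obtain rfl : u = k * s - 1 := by linarith
    have hdvd : k ∣ 15 + m :=
      ⟨k * (8 * s * s - 6 * s + 1) - m * (k * s * s - 2 * s), by linear_combination he⟩
    have hle : k ≤ 15 + m := Int.le_of_dvd (by omega) hdvd
    have hs5 : s ≤ 8 := by
      rcases hm with rfl | rfl | rfl | rfl <;> interval_cases k <;>
        first | (exfalso; revert hdvd; decide) | nlinarith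
    rcases hm with rfl | rfl | rfl | rfl <;> interval_cases k <;>
      first | (exfalso; revert hdvd; decide) | (interval_cases s <;> omega)
  · have he2 : 2 * 15 + m * ((k * s - 1) * (k * s - 2)) = 2 * (k * k * ((4 * s - 1) * (2 * s - 1))) := by
      rw [← hw]; linear_combination 2 * he
    have hdvd : k ∣ 30 + 2 * m :=
      ⟨2 * k * ((4 * s - 1) * (2 * s - 1)) - m * (k * s * s - 3 * s), by linear_combination he2⟩
    have hle : k ≤ 30 + 2 * m := Int.le_of_dvd (by omega) hdvd
    have hs5 : s ≤ 8 := by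
      rcases hm with rfl | rfl | rfl | rfl <;> interval_cases k <;>
        first | (exfalso; revert hdvd; decide) | omega | nlinarith
    rcases hm with rfl | rfl | rfl | rfl <;> interval_cases k <;>
      first | (exfalso; revert hdvd; decide) | omega |
        (interval_cases s <;> first | omega | (have : u ≤ 4 := by omega
                                               interval_cases u <;> omega))

set_option linter.unusedSectionVars false

section Ratio

variable {p q : ℤ} (hp : 1 ≤ p) (hpq : p ≤ q)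

include hp hpq

theorem ratio_gt : 8 * ((p + q + 1) * p * q) < (2 * p + 2 * q + 1) * (2 * p + 1) * (2 * q + 1) := by
  nlinarith [mul_pos (show (0 : ℤ) < p by omega) (show (0 : ℤ) < q by omega)]

theorem ratio_le : (2 * p + 2 * q + 1) * (2 * p + 1) * (2 * q + 1) ≤ 15 * ((p + q + 1) * p * q) := by
  nlinarith [mul_nonneg (mul_nonneg (show (0 : ℤ) ≤ p - 1 by omega) (show (0 : ℤ) ≤ q by omega))
    (show (0 : ℤ) ≤ p + q by omega), mul_nonneg (show (0 : ℤ) ≤ p - 1 by omega) (show (0 : ℤ) ≤ q - 1 by omega),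
    mul_nonneg (show (0 : ℤ) ≤ q - p by omega) (show (0 : ℤ) ≤ q - 1 by omega)]

theorem ratio_high (h101 : 101 ≤ p) :
    81 * ((2 * p + 2 * q + 1) * (2 * p + 1) * (2 * q + 1)) < 655 * ((p + q + 1) * p * q) := by
  nlinarith [mul_nonneg (mul_nonneg (show (0 : ℤ) ≤ p - 101 by omega) (show (0 : ℤ) ≤ q by omega))
    (show (0 : ℤ) ≤ p + q by omega), mul_nonneg (show (0 : ℤ) ≤ q - p by omega) (show (0 : ℤ) ≤ p by omega),
    mul_nonneg (show (0 : ℤ) ≤ q - p by omega) (show (0 : ℤ) ≤ q by omega)]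

theorem ratio_mid (h3 : 3 ≤ p) (h5 : 5 ≤ q) :
    10 * ((2 * p + 2 * q + 1) * (2 * p + 1) * (2 * q + 1)) ≤ 97 * ((p + q + 1) * p * q) := by
  nlinarith [mul_nonneg (mul_nonneg (show (0 : ℤ) ≤ p - 3 by omega) (show (0 : ℤ) ≤ q - 5 by omega))
    (show (0 : ℤ) ≤ p + q by omega), mul_nonneg (show (0 : ℤ) ≤ p - 3 by omega) (show (0 : ℤ) ≤ q - 5 by omega),
    mul_nonneg (show (0 : ℤ) ≤ q - p by omega) (show (0 : ℤ) ≤ p - 3 by omega),
    mul_nonneg (show (0 : ℤ) ≤ q - 5 by omega) (show (0 : ℤ) ≤ q - 5 by omega),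
    mul_nonneg (show (0 : ℤ) ≤ p - 3 by omega) (show (0 : ℤ) ≤ p - 3 by omega)]

end Ratio

/-- The shape with three different degrees. -/
theorem case_b {m u f w i j : ℤ} (hm : m = 1 ∨ m = 10 ∨ m = 15 ∨ m = 16) (hu : 2 ≤ u) (hue : 2 ∣ u)
    (hf : (w = 1 ∧ f = u) ∨ (w = u + 1 ∧ f = u * u) ∨ (w = 2 * u + 1 ∧ f = u * (2 * u - 1)))
    (hi : 1 ≤ i) (hij : i ≤ j)
    (he : (15 + m * f) * ((2 * i + 2 * j - 1) * (2 * i - 1) * (2 * j - 1)) =
      w * w * ((4 * i + 4 * j - 3) * (4 * i - 1) * (4 * j - 1))) :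
    (m = 10 ∧ u = 24) ∨ (m = 16 ∧ u = 30) := by
  obtain ⟨p, hp⟩ : ∃ p, p = 2 * i - 1 := ⟨_, rfl⟩
  obtain ⟨q, hq⟩ : ∃ q, q = 2 * j - 1 := ⟨_, rfl⟩
  have hp1 : 1 ≤ p := by omega
  have hpq : p ≤ q := by omega
  have hA : (2 * i + 2 * j - 1) * (2 * i - 1) * (2 * j - 1) = (p + q + 1) * p * q := by subst hp hq; ring
  have hB : (4 * i + 4 * j - 3) * (4 * i - 1) * (4 * j - 1) = (2 * p + 2 * q + 1) * (2 * p + 1) * (2 * q + 1) := by
    subst hp hq; ring
  have he0 := he
  rw [hA, hB] at he
  have h8 := ratio_gt hp1 hpq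
  have h15 := ratio_le hp1 hpq
  have hhigh := fun h => ratio_high hp1 hpq h
  have hmid := fun h h' => ratio_mid hp1 hpq h h'
  have hA0 : 0 < (p + q + 1) * p * q := mul_pos (mul_pos (by omega) (by omega)) (by omega)
  generalize hAd : (p + q + 1) * p * q = A at *
  generalize hBd : (2 * p + 2 * q + 1) * (2 * p + 1) * (2 * q + 1) = B at *
  have hcmp : ∀ α β : ℤ, 0 < w → β * B ≤ α * A → β * (15 + m * f) ≤ α * (w * w) := by
    intro α β hw hle
    refine le_of_mul_le_mul_right ?_ hA0
    calc β * (15 + m * f) * A = w * w * (β * B) := by linear_combination β * he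
      _ ≤ w * w * (α * A) := mul_le_mul_of_nonneg_left hle (by positivity)
      _ = α * (w * w) * A := by ring
  rcases hf with ⟨rfl, rfl⟩ | ⟨rfl, rfl⟩ | ⟨rfl, rfl⟩
  · have := hcmp 15 1 one_pos (by linarith)
    rcases hm with rfl | rfl | rfl | rfl <;> omega
  swap
  · exfalso
    have h : 8 * ((2 * u + 1) * (2 * u + 1)) * A < (15 + m * (u * (2 * u - 1))) * A := by
      rw [he]
      calc 8 * ((2 * u + 1) * (2 * u + 1)) * A = (2 * u + 1) * (2 * u + 1) * (8 * A) := by ring
        _ < _ := mul_lt_mul_of_pos_left h8 (by positivity)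
    have := lt_of_mul_lt_mul_right h hA0.le
    rcases hm with rfl | rfl | rfl | rfl <;> nlinarith
  have hlow : 8 * ((u + 1) * (u + 1)) < 15 + m * (u * u) := by
    refine lt_of_mul_lt_mul_right ?_ hA0.le
    rw [he]
    calc 8 * ((u + 1) * (u + 1)) * A = (u + 1) * (u + 1) * (8 * A) := by ring
      _ < _ := mul_lt_mul_of_pos_left h8 (by positivity)
  have hm1 : m = 10 ∨ m = 15 ∨ m = 16 := hm.resolve_left fun h => by subst h; nlinarith
  have h10 : m = 10 → 8 ≤ u := fun h => by
    subst h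
    by_contra hc
    have : u ≤ 6 := by omega
    interval_cases u <;> omega
  have hp100 : p < 101 := by
    by_contra hc
    push Not at hc
    have h1 : (15 + m * (u * u)) * 81 < 655 * ((u + 1) * (u + 1)) := by
      refine lt_of_mul_lt_mul_right ?_ hA0.le
      calc (15 + m * (u * u)) * 81 * A = (u + 1) * (u + 1) * (81 * B) := by linear_combination 81 * he
        _ < (u + 1) * (u + 1) * (655 * A) := mul_lt_mul_of_pos_left (hhigh hc) (by positivity)
        _ = _ := by ring
    rcases hm1 with rfl | rfl | rfl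
    · have := h10 rfl; nlinarith
    · nlinarith
    · nlinarith
  rcases le_or_gt u 64 with h64 | h64
  · obtain ⟨v, hv⟩ := hue
    lift v to ℕ using (by omega) with v'
    lift i to ℕ using (by omega) with i'
    lift m to ℕ using (by omega) with m'
    subst hv
    have := table (m := m') (v := v') (i := i') (j := j) (by omega) (by omega) (by omega)
      (fun h => by have := h10 (by exact_mod_cast h); omega) (by omega) (by omega) hij
      (by push_cast; linear_combination he0)
    omega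
  · exfalso
    have hu2 : 66 ≤ u := by omega
    have hbig : ∀ α : ℤ, 10 * B ≤ α * A → 10 * (15 + m * (u * u)) ≤ α * ((u + 1) * (u + 1)) :=
      fun α h => hcmp α 10 (by omega) h
    rcases le_or_gt 5 q with hq5 | hq5
    · rcases le_or_gt 3 p with hp3 | hp3
      · have := hbig 97 (hmid hp3 hq5)
        rcases hm1 with rfl | rfl | rfl <;> nlinarith
      · have hp' : p = 1 := by omega
        subst hp'
        have hB' : B = 3 * ((2 * q + 3) * (2 * q + 1)) := by rw [← hBd]; ring
        have hA' : A = (q + 2) * q := by rw [← hAd]; ring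
        rcases hm1 with rfl | rfl | rfl
        · have hlt : 10 * A < B := by rw [hA', hB']; nlinarith
          have : (15 + 10 * (u * u)) * A < 10 * ((u + 1) * (u + 1)) * A :=
            mul_lt_mul_of_pos_right (by nlinarith) hA0
          nlinarith [mul_lt_mul_of_pos_left hlt (show (0 : ℤ) < (u + 1) * (u + 1) by positivity)]
        all_goals
          have hle : 5 * B ≤ 63 * A := by rw [hA', hB']; nlinarith
          have := hbig 126 (by linarith)
          nlinarith
    · have hp3 : p = 1 ∨ p = 3 := by omega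
      have hq3 : q = 1 ∨ q = 3 := by omega
      rcases hp3 with rfl | rfl <;> rcases hq3 with rfl | rfl <;>
        simp only [← hAd, ← hBd] at he <;>
        rcases hm1 with rfl | rfl | rfl <;> first | omega | nlinarith

/-- The equation from dihedral Sylow 2-subgroups of order eight. -/
theorem case_dih {f x d : ℤ} (hf : 3 ≤ f) (hx : 1 ≤ x) (hd : d = 1 ∨ d = -1) (hxd : x ≠ d)
    (he : 5 * ((2 * f + 1) * (2 * f + 3)) * ((x - d) * (x - d)) = 24 * ((f + 1) * (f + 1)) * (x * (x + d))) :
    f = 3 := by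
  rcases hd with rfl | rfl
  · exfalso
    have h2 : 0 ≤ (x - 1) * (x - 1) := by nlinarith
    nlinarith [mul_nonneg (mul_nonneg (show (0 : ℤ) ≤ f by omega) (show (0 : ℤ) ≤ f by omega)) h2,
      mul_pos (show (0 : ℤ) < (f + 1) * (f + 1) by positivity) (show (0 : ℤ) < x by omega)]
  · have hx16 : x ≤ 18 := by
      by_contra hc
      push Not at hc
      nlinarith [mul_nonneg (show (0 : ℤ) ≤ x - 19 by omega) (mul_nonneg (show (0 : ℤ) ≤ f + 1 by omega)
        (show (0 : ℤ) ≤ f + 1 by omega)), mul_nonneg (show (0 : ℤ) ≤ x - 19 by omega) (show (0 : ℤ) ≤ x by omega)]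
    have hf8 : f ≤ 8 ∨ 9 ≤ f := by omega
    rcases hf8 with h | h
    · interval_cases f <;> interval_cases x <;> omega
    · interval_cases x <;> nlinarith

/-- The Klein four equation in a pair group. -/
theorem case_pair {u k s : ℤ} (hu : 2 ≤ u) (hk : 1 ≤ k) (hs : 1 ≤ s) (hw : u = k * s)
    (he : 4 * (u * u) - 1 = k * k * ((4 * s - 1) * (2 * s - 1))) : False := by
  subst hw
  have hdvd : k ∣ 1 := ⟨4 * k * s * s - k * ((4 * s - 1) * (2 * s - 1)), by linear_combination -he⟩
  have : k = 1 := le_antisymm (Int.le_of_dvd one_pos hdvd) hk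
  subst this
  nlinarith

end Cfsg.Agent.TwoA5
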