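import Cfsg.Agent.S0948
import Cfsg.Agent.S4479
import Cfsg.Agent.S4480
import Cfsg.Agent.Lib.Lie.InvCentralizerFour

/-!
Normal forms of the order formula for a Sylow four-group with one class of involutions.
-/

set_option autoImplicit false
set_option linter.style.haveILetI false

open Cfsg

namespace Cfsg.Agent.TwoA5

variable {G : Type*} [Group G] [Finite G]

/-- One class of involutions excludes a normal complement of a Sylow four-group. -/
theorem no_complement_of_one_class (P : Sylow 2 G) (hP : Nat.card P = 4) (hexp : ∀ x : P, x * x = 1)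
    (hone : ∀ s t : G, orderOf s = 2 → orderOf t = 2 → IsConj s t) {g₀ : ℕ} (hg₀ : Odd g₀)
    (hG : Nat.card G = 4 * g₀) : ¬ ∃ N : Subgroup G, N.Normal ∧ Nat.card N = g₀ := by
  classical
  rintro ⟨N, hN, hNc⟩
  haveI := hN
  haveI : Fact (Nat.Prime 2) := ⟨Nat.prime_two⟩
  have hQ : Nat.card (G ⧸ N) = 2 ^ 2 := by
    have h := N.index_mul_card
    rw [Subgroup.index, hNc, hG] at h
    exact Nat.eq_of_mul_eq_mul_right hg₀.pos (h.trans (by norm_num))
  have hcomm : ∀ x y : G ⧸ N, x * y = y * x := IsPGroup.commutative_of_card_eq_prime_sq hQ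
  obtain ⟨a, ha⟩ : ∃ a : P, a ≠ 1 := by
    by_contra h
    push Not at h
    have : Subsingleton P := ⟨fun x y => (h x).trans (h y).symm⟩
    exact absurd (hP.symm.trans (Nat.card_of_subsingleton (1 : P))) (by norm_num)
  obtain ⟨b, hb, hba⟩ : ∃ b : P, b ≠ 1 ∧ b ≠ a := by
    by_contra h
    push Not at h
    have hle : Nat.card P ≤ Nat.card Bool := Nat.card_le_card_of_injective
      (fun x => decide (x = 1)) fun x y e => by
        simp only at e
        by_cases hx : x = 1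
        · have : decide (y = 1) = true := by rw [← e]; simp [hx]
          rw [hx, of_decide_eq_true this]
        · have : decide (y = 1) = false := by rw [← e]; simp [hx]
          rw [h x hx, h y (of_decide_eq_false this)]
    rw [hP] at hle
    simp at hle
  have ho : ∀ x : P, x ≠ 1 → orderOf (x : G) = 2 := fun x hx => orderOf_eq_prime
    (by rw [pow_two]; exact congrArg Subtype.val (hexp x)) fun e => hx (Subtype.ext e)
  obtain ⟨g, hg⟩ := isConj_iff.1 (hone _ _ (ho a ha) (ho b hb))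
  have e1 : (QuotientGroup.mk (b : G) : G ⧸ N) = QuotientGroup.mk (a : G) := by
    rw [← hg, QuotientGroup.mk_mul, QuotientGroup.mk_mul, hcomm (g : G ⧸ N), mul_assoc,
      ← QuotientGroup.mk_mul, mul_inv_cancel, QuotientGroup.mk_one, mul_one]
  have hmem : ((b : G))⁻¹ * a ∈ N := QuotientGroup.eq.1 e1
  have h2 : orderOf ((b⁻¹ * a : P) : G) = 2 := ho _ fun e => hba (inv_mul_eq_one.1 e)
  have h3 : orderOf ((b⁻¹ * a : P) : G) ∣ g₀ := by
    rw [← hNc]
    have h := orderOf_dvd_natCard (⟨_, hmem⟩ : N)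
    rw [← Subgroup.orderOf_coe] at h
    simpa using h
  rw [h2] at h3
  exact (Nat.not_even_iff_odd.2 hg₀) (even_iff_two_dvd.2 h3)

/-- The order formula in the two possible shapes. -/
theorem four_normal_form (P : Sylow 2 G) (hP : Nat.card P = 4) (hexp : ∀ x : P, x * x = 1)
    (hone : ∀ s t : G, orderOf s = 2 → orderOf t = 2 → IsConj s t) {J : G} (hJ : J ∈ (P : Subgroup G))
    (hJ2 : orderOf J = 2) {d w : ℕ}
    (hd : Nat.card (Subgroup.centralizer ((P : Subgroup G) : Set G)) = d)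
    (hc : Nat.card (Subgroup.centralizer ({J} : Set G)) = d * w) :
    (∃ k s : ℤ, 1 ≤ k ∧ 1 ≤ s ∧ (w : ℤ) = k * s ∧
      (Nat.card G : ℤ) = d * w * (k * k * ((4 * s - 1) * (2 * s - 1)))) ∨
    (∃ i j : ℤ, 1 ≤ i ∧ i ≤ j ∧ (Nat.card G : ℤ) * ((2 * i + 2 * j - 1) * (2 * i - 1) * (2 * j - 1)) =
      d * w * (w * w * ((4 * i + 4 * j - 3) * (4 * i - 1) * (4 * j - 1)))) := by
  classical
  haveI : Fact (Nat.Prime 2) := ⟨Nat.prime_two⟩
  obtain ⟨M, hM⟩ := Char.exists_pModular (p := 2) Nat.prime_two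
  have hPcard : Nat.card (P : Subgroup G) = 4 := hP
  have hKl : IsKleinFour (P : Subgroup G) := ⟨hP, by
    refine (not_isCyclic_iff_exponent_eq_prime Nat.prime_two (by rw [hPcard]; norm_num)).mp fun hcy => ?_
    obtain ⟨x, hx⟩ := hcy.exists_generator
    have h1 : orderOf x = 4 := by rw [orderOf_eq_card_of_forall_mem_zpowers hx, hPcard]
    have h2 : orderOf x ∣ 2 := orderOf_dvd_of_pow_eq_one (by rw [pow_two]; exact hexp x)
    rw [h1] at h2
    norm_num at h2⟩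
  obtain ⟨g₀, hG⟩ : 4 ∣ Nat.card G := hPcard ▸ (P : Subgroup G).card_subgroup_dvd_card
  have hg₀ : Odd g₀ := by
    rw [← Nat.not_even_iff_odd, even_iff_two_dvd]
    intro h
    obtain ⟨r, rfl⟩ := h
    have := P.card_eq_multiplicity
    rw [hP, show (4 : ℕ) = 2 ^ 2 from rfl] at this
    have h3 : 3 ≤ (Nat.card G).factorization 2 :=
      (Nat.prime_two.pow_dvd_iff_le_factorization Nat.card_pos.ne').1 ⟨r, by rw [hG]; ring⟩
    have := Nat.pow_right_injective le_rfl this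
    omega
  have hnc := no_complement_of_one_class P hP hexp hone hg₀ hG
  obtain ⟨z₂, z₃, z₄, ε, hε, hz2, hz3, h23, h24, h34, hB, hval, h42, h43, h44, hrel⟩ :=
    Cfsg.Agent.S0948.result M hM P hKl hone
  obtain ⟨hv2, hv3, hv4⟩ := hval J hJ2
  have hz4 : (z₄ : G → ℂ) ≠ (fun _ => 1) := fun e => by
    rw [e] at hv4
    norm_num at hv4
  have hdist : (z₂ : G → ℂ) ≠ (fun _ => 1) ∧ (z₃ : G → ℂ) ≠ (fun _ => 1) ∧ (z₄ : G → ℂ) ≠ (fun _ => 1) ∧
      z₂ ≠ z₃ ∧ z₂ ≠ z₄ ∧ z₃ ≠ z₄ := ⟨hz2, hz3, hz4, h23, h24, h34⟩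
  have hvals : (z₂ : G → ℂ) J = ((1 : ℤ) : ℂ) ∧ (z₃ : G → ℂ) J = (ε : ℂ) ∧ (z₄ : G → ℂ) J = ((-1 : ℤ) : ℂ) :=
    ⟨by rw [hv2]; norm_num, hv3, by rw [hv4]; norm_num⟩
  have hd0 : 0 < d := hd ▸ Nat.card_pos
  have hw0 : 0 < w := Nat.pos_of_ne_zero fun h => by
    rw [h, mul_zero] at hc
    exact Nat.card_pos.ne' hc
  rcases hε with rfl | rfl
  · left
    obtain ⟨m, hm1, hm2⟩ := Cfsg.Agent.S4480.result M hM g₀ hg₀ hG hnc P J hJ hJ2 z₂ z₃ z₄ 1 1 (-1) hB hdist
      ⟨Or.inl rfl, Or.inl rfl, Or.inr rfl⟩ hvals (by norm_num) rfl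
    obtain ⟨s, hs⟩ : (4 : ℤ) ∣ (charDegree (z₄ : G → ℂ) : ℤ) + 1 := h44
    set q := charDegree (z₄ : G → ℂ) with hq
    rw [hc, hd] at hm1
    rw [hd] at hm2
    have e1 : (4 : ℤ) * (d * w) = m * d * ((q : ℤ) + 1) := by exact_mod_cast hm1
    have hqq : q ≤ q ^ 3 := Nat.le_self_pow (by norm_num) q
    have e2 : (8 : ℤ) * Nat.card G = (m : ℤ) ^ 3 * d * ((q : ℤ) ^ 3 - q) := by
      have h := congrArg (fun x : ℕ => (x : ℤ)) hm2
      simp only [Nat.cast_mul, Nat.cast_pow, Nat.cast_ofNat, Nat.cast_sub hqq] at h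
      exact h
    have hq' : (q : ℤ) = 4 * s - 1 := by linarith
    have hw : (w : ℤ) = m * s :=
      mul_left_cancel₀ (show (4 : ℤ) * d ≠ 0 by positivity) (by linear_combination e1 + (m : ℤ) * d * hs)
    have hs1 : 1 ≤ s := by omega
    refine ⟨m, s, ?_, hs1, hw, ?_⟩
    · have : (0 : ℤ) < w := by exact_mod_cast hw0
      rw [hw] at this
      rcases Nat.eq_zero_or_pos m with rfl | h
      · simp at this
      · exact_mod_cast h
    · rw [hq'] at e2
      rw [hw]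
      exact mul_left_cancel₀ (show (8 : ℤ) ≠ 0 by norm_num) (by linear_combination e2)
  · right
    have hG' := Cfsg.Agent.S4479.result M hM g₀ hg₀ hG hnc P J hJ hJ2 z₂ z₃ z₄ 1 (-1) (-1) hB hdist
      ⟨Or.inl rfl, Or.inr rfl, Or.inr rfl⟩ hvals
    have h1 := hrel 1 (by rw [orderOf_one]; exact odd_one)
    obtain ⟨i, hi⟩ := h44
    obtain ⟨j, hj⟩ := h43
    rw [sub_neg_eq_add] at hj
    simp only [Char.charDegree_eq_deg] at hG' hi hj
    rw [Char.char_one_eq_deg (Char.irr_isCharacter z₂.2), Char.char_one_eq_deg (Char.irr_isCharacter z₃.2),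
      Char.char_one_eq_deg (Char.irr_isCharacter z₄.2)] at h1
    set x₁ := Char.deg (z₂ : G → ℂ)
    set x₂ := Char.deg (z₃ : G → ℂ)
    set x₃ := Char.deg (z₄ : G → ℂ)
    have hsum : (x₁ : ℤ) = x₂ + x₃ - 1 := by
      have : ((1 + (x₁ : ℤ) + (-1) * x₂ - x₃ : ℤ) : ℂ) = ((0 : ℤ) : ℂ) := by push_cast at h1 ⊢; exact h1
      have := Int.cast_injective this
      linarith
    have hi' : (x₃ : ℤ) = 4 * i - 1 := by linarith
    have hj' : (x₂ : ℤ) = 4 * j - 1 := by linarith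
    have hi1 : 1 ≤ i := by omega
    have hj1 : 1 ≤ j := by omega
    rw [hd, hc] at hG'
    have ci : (x₃ : ℚ) = 4 * i - 1 := by exact_mod_cast hi'
    have cj : (x₂ : ℚ) = 4 * j - 1 := by exact_mod_cast hj'
    have cs : (x₁ : ℚ) = 4 * i + 4 * j - 3 := by
      have : (x₁ : ℤ) = 4 * i + 4 * j - 3 := by linarith
      exact_mod_cast this
    push_cast at hG'
    rw [ci, cj, cs] at hG'
    have hiq : (1 : ℚ) ≤ i := by exact_mod_cast hi1
    have hjq : (1 : ℚ) ≤ j := by exact_mod_cast hj1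
    have hdq : (d : ℚ) ≠ 0 := Nat.cast_ne_zero.2 hd0.ne'
    have hA : (2 * (i : ℚ) + 2 * j - 1) ≠ 0 := by linarith
    have hB' : (2 * (i : ℚ) - 1) ≠ 0 := by linarith
    have hC : (2 * (j : ℚ) - 1) ≠ 0 := by linarith
    have e : (Nat.card G : ℚ) * ((2 * i + 2 * j - 1) * (2 * i - 1) * (2 * j - 1)) =
        d * w * (w * w * ((4 * i + 4 * j - 3) * (4 * i - 1) * (4 * j - 1))) := by
      rw [hG']
      have e1 : (4 * (i : ℚ) + 4 * j - 3 + 1) * (4 * j - 1 + -1) * (4 * i - 1 + -1) =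
          8 * ((2 * i + 2 * j - 1) * (2 * i - 1) * (2 * j - 1)) := by ring
      rw [e1]
      have hA0 : (2 * (i : ℚ) + 2 * j - 1) * (2 * i - 1) * (2 * j - 1) ≠ 0 := mul_ne_zero (mul_ne_zero hA hB') hC
      generalize (2 * (i : ℚ) + 2 * j - 1) * (2 * i - 1) * (2 * j - 1) = A at hA0 ⊢
      field_simp
    have e' : (Nat.card G : ℤ) * ((2 * i + 2 * j - 1) * (2 * i - 1) * (2 * j - 1)) =
        d * w * (w * w * ((4 * i + 4 * j - 3) * (4 * i - 1) * (4 * j - 1))) := by exact_mod_cast e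
    rcases le_total i j with h | h
    · exact ⟨i, j, hi1, h, e'⟩
    · exact ⟨j, i, hj1, h, by linear_combination e'⟩

end Cfsg.Agent.TwoA5
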