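import Cfsg.Agent.Lib.Perm.InvCentFix.Main
import Cfsg.Agent.Lib.Solv.TwoSizeRegular.Main

/-!
An involution fixing one point, alone in its class with that fixed point.
-/

set_option autoImplicit false
set_option linter.style.haveILetI false

namespace Cfsg.Agent.TwoA5

open MulAction

variable {G : Type*} [Group G] [Finite G] {Ω : Type*} [MulAction G Ω] [Finite Ω] [FaithfulSMul G Ω]

/-- A doubly transitive group of odd degree with an involution whose conjugates correspond to the points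
has a regular normal elementary abelian subgroup. -/
theorem regular_of_unique_fixer (two : ∀ a b c d : Ω, a ≠ b → c ≠ d → ∃ g : G, g • a = c ∧ g • b = d)
    (hodd : Odd (Nat.card Ω)) (hn : 2 ≤ Nat.card Ω) {z : G} (hz : orderOf z = 2) {c : Ω} (hc : z • c = c)
    (huniq : ∀ g : G, (g * z * g⁻¹) • c = c → g * z * g⁻¹ = z) :
    ∃ (p : ℕ) (A : Subgroup G), p.Prime ∧ A.Normal ∧ (∀ x ∈ A, ∀ y ∈ A, x * y = y * x) ∧ (∀ x ∈ A, x ^ p = 1) ∧
      IsPretransitive A Ω ∧ (∀ x : Ω, ∀ r ∈ A, r • x = x → r = 1) ∧ Nat.card A = Nat.card Ω := by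
  classical
  haveI : Fact (Nat.Prime 2) := ⟨Nat.prime_two⟩
  haveI h2 : IsMultiplyPretransitive G Ω 2 :=
    is_two_pretransitive_iff.2 fun {x₁ x₂ y₁ y₂} hx hy => two _ _ _ _ hx hy
  haveI : IsPretransitive G Ω := isPretransitive_of_is_two_pretransitive
  haveI : IsPreprimitive G Ω := isPreprimitive_of_is_two_pretransitive h2
  -- a Sylow subgroup in the point stabiliser
  obtain ⟨Q, hQ⟩ := (IsPGroup.of_card (p := 2) (n := 1) (by
    rw [Nat.card_zpowers, ← Subgroup.orderOf_coe, hz, pow_one]) :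
      IsPGroup 2 (Subgroup.zpowers (⟨z, hc⟩ : stabilizer G c))).exists_le_sylow
  have hidx : ¬ 2 ∣ (stabilizer G c).index := by
    rw [index_stabilizer_of_transitive]
    exact fun h => (Nat.not_even_iff_odd.2 hodd) (even_iff_two_dvd.2 h)
  have hmcard : Nat.card ((Q : Subgroup (stabilizer G c)).map (stabilizer G c).subtype) =
      2 ^ (Nat.card G).factorization 2 := by
    rw [Subgroup.card_map_of_injective (Subgroup.subtype_injective _), Q.card_eq_multiplicity,
      ← (stabilizer G c).index_mul_card, Nat.factorization_mul Subgroup.index_ne_zero_of_finite Nat.card_pos.ne',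
      Finsupp.add_apply, Nat.factorization_eq_zero_of_not_dvd hidx, zero_add]
  set P := Sylow.ofCard _ hmcard with hPdef
  have hPc : ∀ y ∈ (P : Subgroup G), y • c = c := by
    intro y hy
    rw [hPdef, Sylow.coe_ofCard] at hy
    obtain ⟨y', -, rfl⟩ := Subgroup.mem_map.1 hy
    exact y'.2
  have hzP : z ∈ (P : Subgroup G) := by
    rw [hPdef, Sylow.coe_ofCard]
    exact ⟨⟨z, hc⟩, hQ (Subgroup.mem_zpowers _), rfl⟩
  obtain ⟨N, hN, hNodd, hNc⟩ :=
    Cfsg.Agent.S0215.result P z hz hzP fun g hg => huniq g (hPc _ hg)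
  haveI := hN
  have hN1 : N ≠ ⊥ := by
    intro e
    have hcen : ∀ g : G, g * z * g⁻¹ = z := fun g => by
      have h1 := hNc g
      rw [e, Subgroup.mem_bot] at h1
      calc g * z * g⁻¹ = (z * g * z⁻¹ * g⁻¹)⁻¹ * z := by group
        _ = z := by rw [h1, inv_one, one_mul]
    have hz1 : z = 1 := eq_of_smul_eq_smul fun x : Ω => by
      obtain ⟨g, rfl⟩ := exists_smul_eq G c x
      rw [one_smul]
      nth_rw 1 [← hcen g]
      rw [mul_smul, mul_smul, inv_smul_smul, hc]
    rw [hz1, orderOf_one] at hz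
    omega
  have hsol : Group.IsSolvable ↥N :=
    Cfsg.Agent.OddFT.odd_solvable_of_no_min Cfsg.Agent.OddFT.no_minSimple hNodd
  obtain ⟨p, A, hp, hA, hA1, -, hAp⟩ := Cfsg.Agent.Solv.TwoSizeRegular.exists_elementary_normal_le hN1 hsol
  haveI := hA
  haveI : Fact p.Prime := ⟨hp⟩
  haveI : Nontrivial ↥A := (Subgroup.nontrivial_iff_ne_bot A).2 hA1
  have hAg : IsPGroup p ↥A := fun x => ⟨1, Subtype.ext (by
    show (x : G) ^ p ^ 1 = 1
    rw [pow_one]; exact hAp x x.2)⟩
  haveI := hAg.center_nontrivial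
  set Z := (Subgroup.center ↥A).map A.subtype with hZdef
  have hZ1 : Z ≠ ⊥ := fun e => by
    have := (Subgroup.map_eq_bot_iff_of_injective _ (Subgroup.subtype_injective A)).1 e
    exact (Subgroup.nontrivial_iff_ne_bot _).1 inferInstance this
  haveI : Z.Normal := inferInstanceAs ((Subgroup.center ↥A).map A.subtype).Normal
  haveI hZt : IsPretransitive Z Ω := Cfsg.Agent.Perm.normal_isPretransitive Z hZ1
  have hcomm : ∀ x ∈ Z, ∀ y ∈ Z, x * y = y * x := by
    rintro _ ⟨u, hu, rfl⟩ _ ⟨w, -, rfl⟩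
    exact congrArg Subtype.val (Subgroup.mem_center_iff.1 hu w).symm
  have hreg := Cfsg.Agent.InvCentFix.semiregular_of_abelian (Ω := Ω) hcomm
  refine ⟨p, Z, hp, inferInstance, hcomm, ?_, hZt, hreg, ?_⟩
  · rintro _ ⟨u, -, rfl⟩
    exact hAp _ u.2
  · refine (Cfsg.Agent.Perm.card_eq_of_regular c ((Subgroup.eq_bot_iff_forall _).2 fun r hr => ?_)).symm
    exact Subtype.ext (hreg c r r.2 hr)

end Cfsg.Agent.TwoA5
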