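import Cfsg.Agent.Lib.Perm.TwoA5.Count
import Cfsg.Agent.Lib.Perm.TwoA5.Arith
import Cfsg.Agent.Lib.Perm.TwoA5.Four
import Cfsg.Agent.Lib.Perm.TwoA5.Isolated
import Cfsg.Agent.Lib.Fusion.FixedPointFormula

/-!
Doubly transitive groups with two-point stabiliser of order at most two.
-/

set_option autoImplicit false
set_option linter.style.haveILetI false
set_option linter.unusedSectionVars false

open Cfsg

namespace Cfsg.Agent.TwoA5

open MulAction

variable {X : Type*} [Group X] [Finite X] {Λ : Type*} [MulAction X Λ] [Finite Λ] [FaithfulSMul X Λ]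

theorem twoOn_top (two : ∀ a b c d : Λ, a ≠ b → c ≠ d → ∃ g : X, g • a = c ∧ g • b = d) :
    TwoOn (⊤ : Subgroup X) (Set.univ : Set Λ) :=
  ⟨fun _ _ _ _ => Set.mem_univ _, fun x _ y _ z _ w _ hxy hzw => by
    obtain ⟨g, h1, h2⟩ := two x y z w hxy hzw
    exact ⟨g, trivial, h1, h2⟩⟩

/-- The number of fixed points. -/
noncomputable def nfix (Λ : Type*) [MulAction X Λ] (g : X) : ℕ := (fixIn (Set.univ : Set Λ) g).ncard

theorem nfix_conj (k g : X) : nfix Λ (k * g * k⁻¹) = nfix Λ g := by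
  symm
  refine Set.ncard_congr (fun x _ => k • x) ?_ ?_ ?_
  · rintro x ⟨-, hx⟩
    exact ⟨Set.mem_univ _, by rw [mul_smul, mul_smul, inv_smul_smul, hx]⟩
  · intro x y _ _ e
    exact smul_left_cancel k e
  · rintro y ⟨-, hy⟩
    refine ⟨k⁻¹ • y, ⟨Set.mem_univ _, ?_⟩, smul_inv_smul k y⟩
    rwa [mul_smul, mul_smul, ← eq_inv_smul_iff] at hy

theorem smul_smul_of_sq {g : X} (hg : g * g = 1) (x : Λ) : g • g • x = x := by rw [smul_smul, hg, one_smul]

theorem exists_moved {g : X} (hg : g ≠ 1) : ∃ x : Λ, g • x ≠ x := by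
  by_contra h
  push Not at h
  exact hg (eq_of_smul_eq_smul fun x : Λ => (h x).trans (one_smul X x).symm)

/-- `|X| = f (f-1) |X_{ab}|`. -/
theorem card_two_trans (two : ∀ a b c d : Λ, a ≠ b → c ≠ d → ∃ g : X, g • a = c ∧ g • b = d) {a b : Λ}
    (hab : a ≠ b) : Nat.card X = Nat.card Λ * ((Nat.card Λ - 1) * Nat.card ↥(stabilizer X a ⊓ stabilizer X b)) := by
  have h := twoOn_top two
  have h1 := h.card_eq (Set.mem_univ a) (Set.mem_univ b) hab
  have h2 := h.card_stab (Set.mem_univ a) (Set.mem_univ b) hab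
  rw [Set.ncard_univ] at h1 h2
  rw [top_inf_eq] at h2
  rwa [Subgroup.card_top, top_inf_eq, h2] at h1

/-- With trivial two-point stabilisers and odd degree there is one involution fixing a given point. -/
theorem sharp_unique (two : ∀ a b c d : Λ, a ≠ b → c ≠ d → ∃ g : X, g • a = c ∧ g • b = d)
    (hodd : Odd (Nat.card Λ)) (hsharp : ∀ a b : Λ, a ≠ b → ∀ g : X, g • a = a → g • b = b → g = 1)
    {u v : X} (hu : u * u = 1) (hu1 : u ≠ 1) (hv : v * v = 1) (hv1 : v ≠ 1) {x : Λ}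
    (hux : u • x = x) (hvx : v • x = x) : u = v := by
  classical
  set T : Set X := {g | g * g = 1 ∧ g ≠ 1} with hT
  have hconj : ∀ k ∈ (⊤ : Subgroup X), ∀ g ∈ T, k * g * k⁻¹ ∈ T := fun k _ g hg => ⟨by
    rw [show k * g * k⁻¹ * (k * g * k⁻¹) = k * (g * g) * k⁻¹ by group, hg.1]; group,
    fun e => hg.2 (conj_eq_one_iff.1 e)⟩
  have hone : ∀ g ∈ T, (fixIn (Set.univ : Set Λ) g).ncard = 1 := by
    intro g hg
    have hp := fixIn_parity (F := (Set.univ : Set Λ)) (fun x _ => smul_smul_of_sq hg.1 x) fun _ _ => Set.mem_univ _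
    rw [Set.ncard_univ, Nat.odd_iff.1 hodd] at hp
    by_contra hne
    obtain ⟨y, z, hy, hz, hyz⟩ := (Set.one_lt_ncard_iff (Set.toFinite _)).1
      (show 1 < (fixIn (Set.univ : Set Λ) g).ncard by omega)
    exact hg.2 (hsharp y z hyz g hy.2 hz.2)
  obtain ⟨a, ha⟩ := exists_moved (Λ := Λ) hu1
  have hab : a ≠ u • a := Ne.symm ha
  have h1 : {g | g ∈ T ∧ g • a = u • a ∧ g • (u • a) = a}.ncard = 1 := by
    refine Set.ncard_eq_one.2 ⟨u, Set.ext fun g => ⟨fun hg => ?_, ?_⟩⟩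
    · have e := hsharp a (u • a) hab (u⁻¹ * g) (by rw [mul_smul, hg.2.1, inv_smul_smul])
        (by rw [mul_smul, hg.2.2, inv_smul_eq_iff]; exact (smul_smul_of_sq hu a).symm)
      exact (inv_mul_eq_one.1 e).symm
    · rintro rfl
      exact ⟨⟨hu, hu1⟩, rfl, smul_smul_of_sq hu a⟩
  have hf := (twoOn_top two).fixers hconj (fun _ _ => trivial) (fun g hg x _ => smul_smul_of_sq hg.1 x) hone
    (Set.mem_univ a) (Set.mem_univ (u • a)) hab (Set.mem_univ x)
  rw [h1] at hf
  obtain ⟨w, hw⟩ := Set.ncard_eq_one.1 hf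
  have e1 : u ∈ ({w} : Set X) := hw ▸ ⟨⟨hu, hu1⟩, hux⟩
  have e2 : v ∈ ({w} : Set X) := hw ▸ ⟨⟨hv, hv1⟩, hvx⟩
  exact (Set.mem_singleton_iff.1 e1).trans (Set.mem_singleton_iff.1 e2).symm

/-- Two-point stabilisers of order two. -/
structure Pair2 (X : Type*) [Group X] (Λ : Type*) [MulAction X Λ] (a b : Λ) (s : X) : Prop where
  two : ∀ a b c d : Λ, a ≠ b → c ≠ d → ∃ g : X, g • a = c ∧ g • b = d
  ne : a ≠ b
  s_ne : s ≠ 1
  sa : s • a = a
  sb : s • b = b
  stab : ∀ g : X, g • a = a → g • b = b → g = 1 ∨ g = s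

namespace Pair2

variable {a b : Λ} {s : X} (h : Pair2 X Λ a b s)

include h

theorem sq : s * s = 1 := by
  rcases h.stab (s * s) (by rw [mul_smul, h.sa, h.sa]) (by rw [mul_smul, h.sb, h.sb]) with e | e
  · exact e
  · exact absurd (mul_eq_left.1 e) h.s_ne

theorem order : orderOf s = 2 := orderOf_eq_prime (by rw [pow_two, h.sq]) h.s_ne

theorem card_stab : Nat.card ↥(stabilizer X a ⊓ stabilizer X b) = 2 := by
  rw [← SetLike.coe_sort_coe, Nat.card_coe_set_eq, Set.ncard_eq_two]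
  refine ⟨1, s, h.s_ne.symm, Set.ext fun g => ⟨fun hg => h.stab g hg.1 hg.2, ?_⟩⟩
  rintro (rfl | rfl)
  exacts [one_mem _, ⟨h.sa, h.sb⟩]

theorem card : Nat.card X = Nat.card Λ * ((Nat.card Λ - 1) * 2) := by
  rw [card_two_trans h.two h.ne, h.card_stab]

theorem stab_any {x y : Λ} (hxy : x ≠ y) {g : X} (hg1 : g ≠ 1) (hx : g • x = x) (hy : g • y = y) :
    IsConj s g := by
  obtain ⟨k, h1, h2⟩ := h.two x y a b hxy h.ne
  rcases h.stab (k * g * k⁻¹) (by rw [← h1, mul_smul, mul_smul, inv_smul_smul, hx])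
    (by rw [← h2, mul_smul, mul_smul, inv_smul_smul, hy]) with e | e
  · exact absurd (conj_eq_one_iff.1 e) hg1
  · exact (isConj_iff.2 ⟨k, e⟩).symm

/-- A second non-trivial element fixing two given points is equal to the first. -/
theorem stab_unique {x y : Λ} (hxy : x ≠ y) {g g' : X} (hg1 : g ≠ 1) (hx : g • x = x) (hy : g • y = y)
    (hg1' : g' ≠ 1) (hx' : g' • x = x) (hy' : g' • y = y) : g = g' := by
  obtain ⟨k, h1, h2⟩ := h.two x y a b hxy h.ne
  have e : ∀ l : X, l ≠ 1 → l • x = x → l • y = y → k * l * k⁻¹ = s := fun l hl e1 e2 =>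
    (h.stab (k * l * k⁻¹) (by rw [← h1, mul_smul, mul_smul, inv_smul_smul, e1])
      (by rw [← h2, mul_smul, mul_smul, inv_smul_smul, e2])).resolve_left fun e => hl (conj_eq_one_iff.1 e)
  exact mul_left_cancel (mul_right_cancel ((e g hg1 hx hy).trans (e g' hg1' hx' hy').symm))

theorem nfix_of_conj {g : X} (hg : IsConj s g) : nfix Λ g = nfix Λ s := by
  obtain ⟨k, rfl⟩ := isConj_iff.1 hg
  exact nfix_conj k s

theorem sq_of_conj {g : X} (hg : IsConj s g) : g * g = 1 ∧ g ≠ 1 := by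
  obtain ⟨k, rfl⟩ := isConj_iff.1 hg
  exact ⟨by rw [show k * s * k⁻¹ * (k * s * k⁻¹) = k * (s * s) * k⁻¹ by group, h.sq]; group,
    fun e => h.s_ne (conj_eq_one_iff.1 e)⟩

theorem two_le : 2 ≤ nfix Λ s :=
  (Set.one_lt_ncard_iff (Set.toFinite _)).2 ⟨a, b, ⟨trivial, h.sa⟩, ⟨trivial, h.sb⟩, h.ne⟩

theorem nfix_lt : nfix Λ s < Nat.card Λ := by
  obtain ⟨x, hx⟩ := exists_moved (Λ := Λ) h.s_ne
  rw [← Set.ncard_univ]
  exact Set.ncard_lt_ncard ((Set.ssubset_iff_of_subset (fun _ _ => trivial)).2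
    ⟨x, trivial, fun h' => hx h'.2⟩) (Set.toFinite _)

theorem swappers_le : {g | IsConj s g ∧ g • a = b ∧ g • b = a}.ncard ≤ 2 := by
  classical
  rcases Set.eq_empty_or_nonempty {g | IsConj s g ∧ g • a = b ∧ g • b = a} with e | ⟨g0, hg0⟩
  · rw [e, Set.ncard_empty]; omega
  refine le_trans (Set.ncard_le_ncard (t := {g0, g0 * s}) (fun g hg => ?_) (Set.toFinite _)) ?_
  · rcases h.stab (g0⁻¹ * g) (by rw [mul_smul, hg.2.1, inv_smul_eq_iff, hg0.2.1])
      (by rw [mul_smul, hg.2.2, inv_smul_eq_iff, hg0.2.2]) with e | e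
    · exact Or.inl (inv_mul_eq_one.1 e).symm
    · exact Or.inr (inv_mul_eq_iff_eq_mul.1 e)
  · exact (Set.ncard_insert_le _ _).trans (by rw [Set.ncard_singleton])

/-- The degree is a square or a triangular-shaped number in the number of fixed points. -/
theorem form : ∃ m, {g | IsConj s g ∧ g • a = b ∧ g • b = a}.ncard = m ∧
    ((m = 1 ∧ Nat.card Λ = nfix Λ s * nfix Λ s) ∨ (m = 2 ∧ Nat.card Λ = nfix Λ s * (2 * nfix Λ s - 1))) := by
  classical
  refine ⟨_, rfl, ?_⟩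
  have hT : ∀ k ∈ (⊤ : Subgroup X), ∀ g ∈ {g : X | IsConj s g}, k * g * k⁻¹ ∈ {g : X | IsConj s g} :=
    fun k _ g hg => IsConj.trans hg (isConj_iff.2 ⟨k, rfl⟩)
  have h1 := (twoOn_top h.two).count_fixed hT (u := nfix Λ s) (fun g hg => h.nfix_of_conj hg)
    (Set.mem_univ a) (Set.mem_univ b) h.ne
  have h2 := (twoOn_top h.two).count_swaps hT (fun _ _ => trivial)
    (fun g hg x _ => smul_smul_of_sq (h.sq_of_conj hg).1 x) (u := nfix Λ s) (fun g hg => h.nfix_of_conj hg)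
    (Set.mem_univ a) (Set.mem_univ b) h.ne
  have hone : {g : X | g ∈ {g : X | IsConj s g} ∧ g • a = a ∧ g • b = b}.ncard = 1 := by
    refine Set.ncard_eq_one.2 ⟨s, Set.ext fun g => ⟨fun hg => ?_, ?_⟩⟩
    · exact (h.stab g hg.2.1 hg.2.2).resolve_left (h.sq_of_conj hg.1).2
    · intro e
      rw [Set.mem_singleton_iff] at e
      rw [e]
      exact ⟨IsConj.refl s, h.sa, h.sb⟩
  rw [hone, Set.ncard_univ] at h1
  rw [Set.ncard_univ] at h2
  have e := fixed_swap_eq h.nfix_lt.le h.two_le h1 h2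
  simp only [Set.mem_ofPred_eq, mul_one] at e
  have hle := h.swappers_le
  have hlt := h.nfix_lt
  generalize {g | IsConj s g ∧ g • a = b ∧ g • b = a}.ncard = m at e hle ⊢
  have hm0 : m ≠ 0 := by rintro rfl; omega
  have huu : nfix Λ s ≤ nfix Λ s * nfix Λ s := Nat.le_mul_self _
  have h2u : nfix Λ s * (2 * nfix Λ s - 1) = 2 * (nfix Λ s * nfix Λ s) - nfix Λ s := by
    rw [Nat.mul_sub_one]; ring_nf
  rcases (show m = 1 ∨ m = 2 by omega) with rfl | rfl
  · left; omega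
  · right; omega

theorem swappers_nonempty : ∃ g : X, IsConj s g ∧ g • a = b ∧ g • b = a := by
  obtain ⟨m, hm, hcases⟩ := h.form
  have hne : {g | IsConj s g ∧ g • a = b ∧ g • b = a}.Nonempty :=
    Set.nonempty_of_ncard_ne_zero (by rw [hm]; rcases hcases with ⟨e, -⟩ | ⟨e, -⟩ <;> omega)
  exact hne

/-- Elements interchanging the two points. -/
theorem swap_cases {w g : X} (hw : IsConj s w) (hwa : w • a = b) (hwb : w • b = a)
    (hga : g • a = b) (hgb : g • b = a) :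
    (g = w ∨ g = w * s) ∧ w * s = s * w ∧ w * s * (w * s) = 1 ∧ g * g = 1 := by
  have hw2 := (h.sq_of_conj hw).1
  have hwi : w⁻¹ = w := inv_eq_of_mul_eq_one_right hw2
  have hc : w * s * w = s := by
    rcases h.stab (w * s * w) (by rw [mul_smul, mul_smul, hwa, h.sb, hwb])
      (by rw [mul_smul, mul_smul, hwb, h.sa, hwa]) with e | e
    · exfalso
      refine h.s_ne ?_
      calc s = w * (w * s * w) * w := by rw [← mul_assoc, ← mul_assoc, hw2, one_mul, mul_assoc, hw2, mul_one]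
        _ = 1 := by rw [e, mul_one, hw2]
    · exact e
  have hcomm : w * s = s * w := by
    calc w * s = w * s * (w * w) := by rw [hw2, mul_one]
      _ = w * s * w * w := by rw [mul_assoc (w * s) w w]
      _ = s * w := by rw [hc]
  have hws : w * s * (w * s) = 1 := by
    calc w * s * (w * s) = w * s * w * s := by rw [← mul_assoc]
      _ = 1 := by rw [hc, h.sq]
  have hg : g = w ∨ g = w * s := by
    rcases h.stab (w⁻¹ * g) (by rw [mul_smul, hga, inv_smul_eq_iff, hwa])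
      (by rw [mul_smul, hgb, inv_smul_eq_iff, hwb]) with e | e
    · exact Or.inl (inv_mul_eq_one.1 e).symm
    · exact Or.inr (inv_mul_eq_iff_eq_mul.1 e)
  refine ⟨hg, hcomm, hws, ?_⟩
  rcases hg with rfl | rfl
  exacts [hw2, hws]

/-- An element interchanging two points squares to one. -/
theorem sq_of_swap {g : X} {x y : Λ} (hxy : x ≠ y) (h1 : g • x = y) (h2 : g • y = x) : g * g = 1 := by
  obtain ⟨k, hk1, hk2⟩ := h.two x y a b hxy h.ne
  obtain ⟨w, hw, hwa, hwb⟩ := h.swappers_nonempty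
  have e := (h.swap_cases hw hwa hwb (g := k * g * k⁻¹)
    (by rw [← hk1, ← hk2, mul_smul, mul_smul, inv_smul_smul, h1])
    (by rw [← hk1, ← hk2, mul_smul, mul_smul, inv_smul_smul, h2])).2.2.2
  rw [show k * g * k⁻¹ * (k * g * k⁻¹) = k * (g * g) * k⁻¹ by group, conj_eq_one_iff] at e
  exact e

/-- In odd degree the degree is the square of the number of fixed points. -/
theorem odd_square (hodd : Odd (Nat.card Λ)) : Nat.card Λ = nfix Λ s * nfix Λ s ∧
    {g | IsConj s g ∧ g • a = b ∧ g • b = a}.ncard = 1 := by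
  classical
  obtain ⟨m, hm, ⟨rfl, hf⟩ | ⟨rfl, hf⟩⟩ := h.form
  · exact ⟨hf, hm⟩
  exfalso
  set u := nfix Λ s with hu
  have hu2 := h.two_le
  obtain ⟨w, w', hne, hW⟩ := Set.ncard_eq_two.1 hm
  have hwmem : w ∈ {g | IsConj s g ∧ g • a = b ∧ g • b = a} := hW ▸ Or.inl rfl
  have hwmem' : w' ∈ {g | IsConj s g ∧ g • a = b ∧ g • b = a} := hW ▸ Or.inr rfl
  have hw' : w' = w * s := ((h.swap_cases hwmem.1 hwmem.2.1 hwmem.2.2 hwmem'.2.1 hwmem'.2.2).1).resolve_left
    hne.symm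
  -- one class
  have hcls : ∀ g : X, g * g = 1 → g ≠ 1 → IsConj s g := by
    intro g hg hg1
    obtain ⟨x, hx⟩ := exists_moved (Λ := Λ) hg1
    obtain ⟨k, hk1, hk2⟩ := h.two x (g • x) a b (Ne.symm hx) h.ne
    have e1 : (k * g * k⁻¹) • a = b := by rw [← hk1, ← hk2, mul_smul, mul_smul, inv_smul_smul]
    have e2 : (k * g * k⁻¹) • b = a := by
      rw [← hk1, ← hk2, mul_smul, mul_smul, inv_smul_smul, smul_smul_of_sq hg]
    have e3 : IsConj s (k * g * k⁻¹) := by
      rcases (h.swap_cases hwmem.1 hwmem.2.1 hwmem.2.2 e1 e2).1 with e | e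
      · rw [e]; exact hwmem.1
      · rw [e, ← hw']; exact hwmem'.1
    exact e3.trans (isConj_iff.2 ⟨k⁻¹, by group⟩)
  have hnofour : ∀ k : X, k * k ≠ s := by
    intro k hk
    have hc : k * s = s * k := by rw [← hk, mul_assoc]
    by_cases hfix : k • a = a ∧ k • b = b
    · rcases h.stab k hfix.1 hfix.2 with e | e
      · exact h.s_ne (by rw [← hk, e, one_mul])
      · rw [e, h.sq] at hk
        exact h.s_ne hk.symm
    · have hkk : ∀ y : Λ, s • y = y → k • k • y = y := fun y hy => by rw [smul_smul, hk, hy]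
      have hy : ∃ y : Λ, s • y = y ∧ k • y ≠ y := by
        rcases not_and_or.1 hfix with e | e
        · exact ⟨a, h.sa, e⟩
        · exact ⟨b, h.sb, e⟩
      obtain ⟨y, hy1, hy2⟩ := hy
      have := h.sq_of_swap (Ne.symm hy2) rfl (hkk y hy1)
      rw [hk] at this
      exact h.s_ne this
  have hnofour' : ∀ k : X, k * k * (k * k) = 1 → k * k = 1 := by
    intro k hk
    by_contra hne'
    obtain ⟨l, hl⟩ := isConj_iff.1 (hcls (k * k) hk hne')
    exact hnofour (l⁻¹ * k * l) (by rw [show l⁻¹ * k * l * (l⁻¹ * k * l) = l⁻¹ * (k * k) * l by group, ← hl]; group)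
  haveI : Fact (Nat.Prime 2) := ⟨Nat.prime_two⟩
  obtain ⟨P, hP⟩ := (IsPGroup.of_card (p := 2) (n := 1) (by rw [Nat.card_zpowers, h.order, pow_one]) :
    IsPGroup 2 (Subgroup.zpowers s)).exists_le_sylow
  have hsP : s ∈ (P : Subgroup X) := hP (Subgroup.mem_zpowers s)
  have hPsq : ∀ g ∈ (P : Subgroup X), g * g = 1 := by
    intro g hg
    obtain ⟨j, hj⟩ := P.isPGroup' ⟨g, hg⟩
    have hj' : g ^ 2 ^ j = 1 := congrArg Subtype.val hj
    clear hj
    induction j with
    | zero => rw [pow_zero, pow_one] at hj'; rw [hj', one_mul]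
    | succ i ih =>
      rcases i with _ | i
      · rwa [zero_add, pow_one, pow_two] at hj'
      · refine ih ?_
        have e1 : g ^ 2 ^ i * g ^ 2 ^ i = g ^ 2 ^ (i + 1) := by rw [← pow_add]; congr 1; ring
        have e2 := hnofour' (g ^ 2 ^ i) (by
          rw [e1, ← pow_add]
          rw [show 2 ^ (i + 1) + 2 ^ (i + 1) = 2 ^ (i + 1 + 1) by ring]
          exact hj')
        rwa [e1] at e2
  have hPcomm : ∀ g ∈ (P : Subgroup X), ∀ g' ∈ (P : Subgroup X), g * g' = g' * g := by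
    intro g hg g' hg'
    have e := hPsq (g * g') (mul_mem hg hg')
    calc g * g' = (g * g')⁻¹ := (inv_eq_of_mul_eq_one_right e).symm
      _ = g' * g := by
        rw [mul_inv_rev, inv_eq_of_mul_eq_one_right (hPsq g hg), inv_eq_of_mul_eq_one_right (hPsq g' hg')]
  -- the centraliser of `s` on its fixed points
  set C := Subgroup.centralizer ({s} : Set X) with hC
  set Fs := fixIn (Set.univ : Set Λ) s with hFs
  have hCinv : ∀ g ∈ C, ∀ y ∈ Fs, g • y ∈ Fs := fun g hg y hy => ⟨trivial, by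
    rw [smul_smul, ← Subgroup.mem_centralizer_singleton_iff.1 hg, mul_smul, hy.2]⟩
  have hTC : TwoOn C Fs := by
    refine ⟨hCinv, fun x hx y hy z hz w0 hw0 hxy hzw => ?_⟩
    obtain ⟨k, hk1, hk2⟩ := h.two x y z w0 hxy hzw
    refine ⟨k, Subgroup.mem_centralizer_singleton_iff.2 ?_, hk1, hk2⟩
    have := h.stab_unique hzw (fun e => h.s_ne (conj_eq_one_iff.1 e))
      (show (k * s * k⁻¹) • z = z by rw [← hk1, mul_smul, mul_smul, inv_smul_smul, hx.2])
      (show (k * s * k⁻¹) • w0 = w0 by rw [← hk2, mul_smul, mul_smul, inv_smul_smul, hy.2])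
      h.s_ne hz.2 hw0.2
    exact mul_inv_eq_iff_eq_mul.1 this
  set T : Set X := {g | g ∈ C ∧ g * g = 1 ∧ g ≠ 1 ∧ g ≠ s} with hT
  have hTconj : ∀ k ∈ C, ∀ g ∈ T, k * g * k⁻¹ ∈ T := fun k hk g hg =>
    ⟨C.mul_mem (C.mul_mem hk hg.1) (C.inv_mem hk),
      by rw [show k * g * k⁻¹ * (k * g * k⁻¹) = k * (g * g) * k⁻¹ by group, hg.2.1]; group,
      fun e => hg.2.2.1 (conj_eq_one_iff.1 e), fun e => hg.2.2.2 (by
        have h' := Subgroup.mem_centralizer_singleton_iff.1 hk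
        calc g = k⁻¹ * (k * g * k⁻¹) * k := by group
          _ = k⁻¹ * (s * k) := by rw [e, mul_assoc]
          _ = s := by rw [← h']; group)⟩
  have huodd : u % 2 = 1 := by
    rcases Nat.mod_two_eq_zero_or_one u with e | e
    · rw [Nat.odd_iff, hf, Nat.mul_mod, e, zero_mul] at hodd
      exact absurd hodd (by norm_num)
    · exact e
  have hT1 : ∀ g ∈ T, (fixIn Fs g).ncard = 1 := by
    intro g hg
    have hp := fixIn_parity (F := Fs) (fun x _ => smul_smul_of_sq hg.2.1 x) (hCinv g hg.1)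
    rw [show Fs.ncard = u from rfl, huodd] at hp
    by_contra hne'
    obtain ⟨y, z, hy, hz, hyz⟩ := (Set.one_lt_ncard_iff (Set.toFinite _)).1
      (show 1 < (fixIn Fs g).ncard by omega)
    exact hg.2.2.2 (h.stab_unique hyz hg.2.2.1 hy.2 hz.2 h.s_ne hy.1.2 hz.1.2)
  have ha' : a ∈ Fs := ⟨trivial, h.sa⟩
  have hb' : b ∈ Fs := ⟨trivial, h.sb⟩
  obtain ⟨-, hcomm, hws, -⟩ := h.swap_cases hwmem.1 hwmem.2.1 hwmem.2.2 hwmem.2.1 hwmem.2.2
  have hwC : w ∈ C := Subgroup.mem_centralizer_singleton_iff.2 hcomm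
  have hTsw : {g | g ∈ T ∧ g • a = b ∧ g • b = a}.ncard ≤ 2 := by
    refine le_trans (Set.ncard_le_ncard (t := {w, w * s}) (fun g hg => ?_) (Set.toFinite _))
      ((Set.ncard_insert_le _ _).trans (by rw [Set.ncard_singleton]))
    exact (h.swap_cases hwmem.1 hwmem.2.1 hwmem.2.2 hg.2.1 hg.2.2).1
  -- the Sylow subgroup fixes a point and has order four
  have hX4 : 4 ∣ Nat.card X := by
    obtain ⟨r, hr⟩ : 2 ∣ Nat.card Λ - 1 := (Nat.even_sub' hodd.pos).2
      ⟨fun _ => odd_one, fun _ => hodd⟩ |>.two_dvd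
    exact ⟨Nat.card Λ * r, by rw [h.card, hr]; ring⟩
  have hP4 : 4 ∣ Nat.card P := by
    rw [P.card_eq_multiplicity]
    exact dvd_trans (by norm_num : 4 ∣ 2 ^ 2) (pow_dvd_pow 2
      ((Nat.prime_two.pow_dvd_iff_le_factorization Nat.card_pos.ne').1 (by norm_num; exact hX4)))
  have hPT : ∀ g ∈ (P : Subgroup X), g ≠ 1 → g ≠ s → g ∈ T := fun g hg h1 h2 =>
    ⟨Subgroup.mem_centralizer_singleton_iff.2 (hPcomm g hg s hsP), hPsq g hg, h1, h2⟩
  obtain ⟨g₁, hg₁, hg₁1, hg₁s⟩ : ∃ g ∈ (P : Subgroup X), g ≠ 1 ∧ g ≠ s := by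
    by_contra hno
    push Not at hno
    have hsub : ((P : Subgroup X) : Set X) ⊆ {1, s} := fun g hg => by
      by_cases e : g = 1
      exacts [Or.inl e, Or.inr (hno g hg e)]
    have h3 := Set.ncard_le_ncard hsub (Set.toFinite _)
    rw [← Nat.card_coe_set_eq, Set.ncard_pair h.s_ne.symm] at h3
    have := Nat.le_of_dvd Nat.card_pos hP4
    simp only [SetLike.coe_sort_coe] at h3
    omega
  obtain ⟨x, hx⟩ := Set.ncard_eq_one.1 (hT1 g₁ (hPT g₁ hg₁ hg₁1 hg₁s))
  have hxm : x ∈ fixIn Fs g₁ := hx ▸ Set.mem_singleton x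
  have hPx : ∀ g ∈ (P : Subgroup X), g • x = x := by
    intro g hg
    have hgC : g ∈ C := Subgroup.mem_centralizer_singleton_iff.2 (hPcomm g hg s hsP)
    have : g • x ∈ fixIn Fs g₁ := ⟨hCinv g hgC x hxm.1, by
      rw [smul_smul, hPcomm g₁ hg₁ g hg, mul_smul, hxm.2]⟩
    rwa [hx, Set.mem_singleton_iff] at this
  set Tx := {g | g ∈ T ∧ g • x = x} with hTx
  have hTx2 : Tx.ncard ≤ 2 := by
    rw [hTC.fixers hTconj (fun g hg => hg.1) (fun g hg y _ => smul_smul_of_sq hg.2.1 y) hT1 ha' hb' h.ne hxm.1]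
    exact hTsw
  have hPsub : ((P : Subgroup X) : Set X) ⊆ insert 1 (insert s Tx) := fun g hg => by
    by_cases e1 : g = 1
    · exact Or.inl e1
    by_cases e2 : g = s
    · exact Or.inr (Or.inl e2)
    exact Or.inr (Or.inr ⟨hPT g hg e1 e2, hPx g hg⟩)
  have hins : (insert 1 (insert s Tx)).ncard ≤ 4 :=
    (Set.ncard_insert_le _ _).trans (by have := Set.ncard_insert_le s Tx; omega)
  have hPc : Nat.card (P : Subgroup X) = ((P : Subgroup X) : Set X).ncard := by
    rw [← Nat.card_coe_set_eq]; rfl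
  have hP4' : Nat.card (P : Subgroup X) = 4 := le_antisymm
    (hPc ▸ (Set.ncard_le_ncard hPsub (Set.toFinite _)).trans hins) (Nat.le_of_dvd Nat.card_pos hP4)
  have hTxP : ∀ g ∈ Tx, g ∈ (P : Subgroup X) := by
    have e := Set.eq_of_subset_of_ncard_le hPsub (by rw [← hPc, hP4']; exact hins) (Set.toFinite _)
    intro g hg
    have hmem : g ∈ ((P : Subgroup X) : Set X) := e ▸ Or.inr (Or.inr hg)
    exact hmem
  -- the centraliser of the Sylow subgroup
  have hCP : Subgroup.centralizer ((P : Subgroup X) : Set X) = C ⊓ stabilizer X x := by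
    refine le_antisymm (fun y hy => ?_) fun y hy => ?_
    · have hys : y ∈ C := Subgroup.mem_centralizer_singleton_iff.2 (Subgroup.mem_centralizer_iff.1 hy s hsP).symm
      refine ⟨hys, ?_⟩
      have : y • x ∈ fixIn Fs g₁ := ⟨hCinv y hys x hxm.1, by
        rw [smul_smul, Subgroup.mem_centralizer_iff.1 hy g₁ hg₁, mul_smul, hxm.2]⟩
      rwa [hx, Set.mem_singleton_iff] at this
    · have hys : y ∈ C := hy.1
      have hyx : y • x = x := hy.2
      have hnorm : ∀ y' ∈ C ⊓ stabilizer X x, ∀ g ∈ (P : Subgroup X), y' * g * y'⁻¹ ∈ (P : Subgroup X) := by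
        intro y' hy' g hg
        by_cases e1 : g = 1
        · rw [e1, mul_one, mul_inv_cancel]; exact one_mem _
        by_cases e2 : g = s
        · rw [e2, Subgroup.mem_centralizer_singleton_iff.1 hy'.1, mul_inv_cancel_right]
          exact hsP
        refine hTxP _ ⟨hTconj y' hy'.1 g (hPT g hg e1 e2), ?_⟩
        rw [mul_smul, mul_smul, show y'⁻¹ • x = x from inv_smul_eq_iff.2 (show x = y' • x from hy'.2.symm),
          hPx g hg, show y' • x = x from hy'.2]
      refine Subgroup.mem_centralizer_iff.2 fun g hg => ?_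
      by_cases e1 : g = 1
      · rw [e1, one_mul, mul_one]
      by_cases e2 : g = s
      · rw [e2]; exact (Subgroup.mem_centralizer_singleton_iff.1 hys).symm
      -- conjugation by `y²` fixes `g`
      have hsq : ∀ y' ∈ C ⊓ stabilizer X x, Commute (y' * y') g := by
        intro y' hy'
        have hgT : g ∈ Tx := ⟨hPT g hg e1 e2, hPx g hg⟩
        have hcase : ∀ l ∈ Tx, l = g ∨ l = g * s := by
          intro l hl
          have hgs : g * s ∈ Tx := by
            refine ⟨hPT _ (mul_mem hg hsP) (fun e => e2 ?_) (fun e => e1 (mul_eq_right.1 e)), hPx _ (mul_mem hg hsP)⟩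
            rw [eq_inv_of_mul_eq_one_left e, inv_eq_of_mul_eq_one_right h.sq]
          by_contra hcon
          push Not at hcon
          have hsub : ({g, g * s, l} : Set X) ⊆ Tx := by
            rintro z (rfl | rfl | rfl)
            exacts [hgT, hgs, hl]
          have h3 : ({g, g * s, l} : Set X).ncard = 3 := Set.ncard_eq_three.2
            ⟨g, g * s, l, fun e => h.s_ne (left_eq_mul.1 e), hcon.1.symm, hcon.2.symm, rfl⟩
          have := Set.ncard_le_ncard hsub (Set.toFinite _)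
          omega
        have hc1 : y' * g * y'⁻¹ ∈ Tx := ⟨hTconj y' hy'.1 g (hPT g hg e1 e2), by
          rw [mul_smul, mul_smul, show y'⁻¹ • x = x from inv_smul_eq_iff.2 (show x = y' • x from hy'.2.symm),
            hPx g hg, show y' • x = x from hy'.2]⟩
        have hsy := Subgroup.mem_centralizer_singleton_iff.1 hy'.1
        have hss : y' * s * y'⁻¹ = s := by rw [hsy, mul_inv_cancel_right]
        show y' * y' * g = g * (y' * y')
        rw [← mul_inv_eq_iff_eq_mul]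
        calc y' * y' * g * (y' * y')⁻¹ = y' * (y' * g * y'⁻¹) * y'⁻¹ := by group
          _ = g := by
            rcases hcase _ hc1 with e | e
            · rw [e, e]
            · rw [e, show y' * (g * s) * y'⁻¹ = (y' * g * y'⁻¹) * (y' * s * y'⁻¹) by group, e, hss,
                mul_assoc, h.sq, mul_one]
      obtain ⟨k, o, ho, hko⟩ := Nat.exists_eq_two_pow_mul_odd (n := orderOf y) (orderOf_pos y).ne'
      have hyo : y ^ o ∈ (P : Subgroup X) := by
        have hYZ : y ^ o ∈ Subgroup.normalizer ((P : Subgroup X) : Set X) := by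
          have hy' : y ^ o ∈ C ⊓ stabilizer X x := pow_mem hy o
          refine Subgroup.mem_normalizer_iff.2 fun z => ⟨hnorm _ hy' z, fun hz => ?_⟩
          have e' := hnorm _ (inv_mem hy') _ hz
          rwa [show (y ^ o)⁻¹ * (y ^ o * z * (y ^ o)⁻¹) * ((y ^ o)⁻¹)⁻¹ = z by group] at e'
        have hpg : IsPGroup 2 (Subgroup.zpowers (y ^ o)) := by
          refine IsPGroup.of_card (n := k) ?_
          rw [Nat.card_zpowers, orderOf_pow_of_dvd ho.pos.ne' (hko ▸ dvd_mul_left _ _), hko,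
            Nat.mul_div_cancel _ ho.pos]
        have hj := hpg.to_sup_of_normal_right' P.isPGroup' (Subgroup.zpowers_le.2 hYZ)
        exact (P.is_maximal' hj le_sup_right) ▸ Subgroup.mem_sup_left (Subgroup.mem_zpowers _)
      have hco : Commute (y ^ o) g := hPcomm _ hyo g hg
      have hc2 : Commute (y * y) g := hsq y hy
      obtain ⟨r, hr⟩ := ho
      have : Commute (y ^ o * ((y * y) ^ r)⁻¹) g := hco.mul_left ((hc2.pow_left r).inv_left)
      rw [show y ^ o * ((y * y) ^ r)⁻¹ = y by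
        rw [hr, pow_succ', ← pow_two, ← pow_mul]; group] at this
      exact this.symm
  -- the order formula
  have hone : ∀ p q : X, orderOf p = 2 → orderOf q = 2 → IsConj p q := by
    intro p q hp hq
    have hp' := hcls p (by rw [← pow_two, ← hp, pow_orderOf_eq_one]) (fun e => by rw [e, orderOf_one] at hp; omega)
    have hq' := hcls q (by rw [← pow_two, ← hq, pow_orderOf_eq_one]) (fun e => by rw [e, orderOf_one] at hq; omega)
    exact hp'.symm.trans hq'
  have hd : Nat.card (Subgroup.centralizer ((P : Subgroup X) : Set X)) = 2 * (u - 1) := by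
    obtain ⟨y, hy, hxy⟩ : ∃ y ∈ Fs, x ≠ y := by
      by_cases e : x = a
      exacts [⟨b, hb', e ▸ h.ne⟩, ⟨a, ha', e⟩]
    rw [hCP, hTC.card_stab hxm.1 hy hxy, show Fs.ncard = u from rfl, mul_comm]
    congr 1
    rw [← SetLike.coe_sort_coe, Nat.card_coe_set_eq, Set.ncard_eq_two]
    refine ⟨1, s, h.s_ne.symm, Set.ext fun g => ⟨fun hg => ?_, ?_⟩⟩
    · by_cases e : g = 1
      · exact Or.inl e
      · exact Or.inr (h.stab_unique hxy e hg.1.2 hg.2 h.s_ne hxm.1.2 hy.2)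
    · rintro (rfl | rfl)
      · exact one_mem _
      · exact ⟨⟨Subgroup.mem_centralizer_singleton_iff.2 rfl, hxm.1.2⟩, hy.2⟩
  have hc : Nat.card C = 2 * (u - 1) * u := by
    obtain ⟨y, hy, hxy⟩ : ∃ y ∈ Fs, x ≠ y := by
      by_cases e : x = a
      exacts [⟨b, hb', e ▸ h.ne⟩, ⟨a, ha', e⟩]
    rw [hTC.card_eq hxm.1 hy hxy, ← hCP, hd, show Fs.ncard = u from rfl]
    ring
  have hGc : (Nat.card X : ℤ) = (2 * (u - 1) : ℕ) * u * (4 * ((u : ℤ) * u) - 1) := by
    rw [h.card, hf]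
    obtain ⟨v, hv⟩ : ∃ v, u = v + 1 := ⟨u - 1, by omega⟩
    rw [hv]
    rw [show 2 * (v + 1) - 1 = 2 * v + 1 by omega,
      show (v + 1) * (2 * v + 1) - 1 = v * (2 * v + 3) by
        rw [show (v + 1) * (2 * v + 1) = v * (2 * v + 3) + 1 by ring, Nat.add_sub_cancel],
      Nat.add_sub_cancel]
    push_cast
    ring
  have hdu : (0 : ℤ) < ((2 * (u - 1) : ℕ) : ℤ) * u := by
    have : 0 < 2 * (u - 1) * u := Nat.mul_pos (by omega) (by omega)
    exact_mod_cast this
  rcases four_normal_form P hP4' (fun z => Subtype.ext (hPsq z z.2)) hone hsP h.order hd hc with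
    ⟨k, t, hk, ht, hw, he⟩ | ⟨i, j, hi, hij, he⟩
  · exact case_pair (u := (u : ℤ)) (by omega) hk ht hw (mul_left_cancel₀ hdu.ne' (hGc.symm.trans he))
  · rw [hGc, mul_assoc (((2 * (u - 1) : ℕ) : ℤ) * u)] at he
    have he' := mul_left_cancel₀ hdu.ne' he
    have hgt := ratio_gt (p := 2 * i - 1) (q := 2 * j - 1) (by omega) (by omega)
    rw [show (2 * (2 * i - 1) + 2 * (2 * j - 1) + 1) * (2 * (2 * i - 1) + 1) * (2 * (2 * j - 1) + 1) =
      (4 * i + 4 * j - 3) * (4 * i - 1) * (4 * j - 1) by ring,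
      show (2 * i - 1 + (2 * j - 1) + 1) * (2 * i - 1) * (2 * j - 1) =
      (2 * i + 2 * j - 1) * (2 * i - 1) * (2 * j - 1) by ring] at hgt
    have hA : 0 < (2 * i + 2 * j - 1) * (2 * i - 1) * (2 * j - 1) :=
      mul_pos (mul_pos (by omega) (by omega)) (by omega)
    generalize (2 * i + 2 * j - 1) * (2 * i - 1) * (2 * j - 1) = A at he' hgt hA
    generalize (4 * i + 4 * j - 3) * (4 * i - 1) * (4 * j - 1) = B at he' hgt
    have hu0 : (0 : ℤ) < (u : ℤ) * u := mul_pos (by omega) (by omega)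
    nlinarith [mul_lt_mul_of_pos_left hgt hu0]

/-- In odd degree: a regular normal elementary abelian subgroup, and no conjugate four-group fixes a point. -/
theorem odd_structure (hodd : Odd (Nat.card Λ)) :
    Nat.card Λ = nfix Λ s * nfix Λ s ∧
    ∃ (p : ℕ) (E : Subgroup X), p.Prime ∧ E.Normal ∧ (∀ x ∈ E, ∀ y ∈ E, x * y = y * x) ∧ (∀ x ∈ E, x ^ p = 1) ∧
      IsPretransitive E Λ ∧ (∀ x : Λ, ∀ r ∈ E, r • x = x → r = 1) ∧ Nat.card E = Nat.card Λ ∧
      ∀ v₁ v₂ : X, v₁ * v₁ = 1 → v₁ ≠ 1 → v₂ * v₂ = 1 → v₂ ≠ 1 → v₁ ≠ v₂ → v₁ * v₂ = v₂ * v₁ →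
        IsConj v₁ v₂ → IsConj v₁ (v₁ * v₂) → ∀ x : Λ, v₁ • x = x → v₂ • x = x → False := by
  classical
  obtain ⟨hf, hm⟩ := h.odd_square hodd
  refine ⟨hf, ?_⟩
  have hu2 := h.two_le
  obtain ⟨w, hW⟩ := Set.ncard_eq_one.1 hm
  have hwmem : w ∈ {g | IsConj s g ∧ g • a = b ∧ g • b = a} := hW ▸ Set.mem_singleton w
  obtain ⟨-, -, hws, -⟩ := h.swap_cases hwmem.1 hwmem.2.1 hwmem.2.2 hwmem.2.1 hwmem.2.2
  set z := w * s with hz
  set T : Set X := {g | g * g = 1 ∧ g ≠ 1 ∧ ¬ IsConj s g} with hT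
  have hTconj : ∀ k ∈ (⊤ : Subgroup X), ∀ g ∈ T, k * g * k⁻¹ ∈ T := fun k _ g hg =>
    ⟨by rw [show k * g * k⁻¹ * (k * g * k⁻¹) = k * (g * g) * k⁻¹ by group, hg.1]; group,
      fun e => hg.2.1 (conj_eq_one_iff.1 e), fun e => hg.2.2 (e.trans (isConj_iff.2 ⟨k⁻¹, by group⟩))⟩
  have hT1 : ∀ g ∈ T, (fixIn (Set.univ : Set Λ) g).ncard = 1 := by
    intro g hg
    have hp := fixIn_parity (F := (Set.univ : Set Λ)) (fun x _ => smul_smul_of_sq hg.1 x) fun _ _ => Set.mem_univ _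
    rw [Set.ncard_univ, Nat.odd_iff.1 hodd] at hp
    by_contra hne
    obtain ⟨y, y', hy, hy', hyy⟩ := (Set.one_lt_ncard_iff (Set.toFinite _)).1
      (show 1 < (fixIn (Set.univ : Set Λ) g).ncard by omega)
    exact hg.2.2 (h.stab_any hyy hg.2.1 hy.2 hy'.2)
  have hza : z • a = b := by rw [hz, mul_smul, h.sa, hwmem.2.1]
  have hzb : z • b = a := by rw [hz, mul_smul, h.sb, hwmem.2.2]
  have hz1 : z ≠ 1 := fun e => h.ne (by rw [← hza, e, one_smul])
  have hzT : z ∈ T := ⟨hws, hz1, fun e => by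
    have hz' : z ∈ {g | IsConj s g ∧ g • a = b ∧ g • b = a} := ⟨e, hza, hzb⟩
    rw [hW, Set.mem_singleton_iff, hz, mul_eq_left] at hz'
    exact h.s_ne hz'⟩
  have hsw : {g | g ∈ T ∧ g • a = b ∧ g • b = a}.ncard = 1 := by
    refine Set.ncard_eq_one.2 ⟨z, Set.ext fun g => ⟨fun hg => ?_, ?_⟩⟩
    · rcases (h.swap_cases hwmem.1 hwmem.2.1 hwmem.2.2 hg.2.1 hg.2.2).1 with e | e
      · exact absurd (e ▸ hwmem.1) hg.1.2.2
      · exact e
    · rintro rfl
      exact ⟨hzT, hza, hzb⟩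
  have huniq : ∀ g ∈ T, ∀ g' ∈ T, ∀ x : Λ, g • x = x → g' • x = x → g = g' := by
    intro g hg g' hg' x e e'
    have hfx := (twoOn_top h.two).fixers hTconj (fun _ _ => trivial) (fun g hg x _ => smul_smul_of_sq hg.1 x) hT1
      (Set.mem_univ a) (Set.mem_univ b) h.ne (Set.mem_univ x)
    rw [hsw] at hfx
    obtain ⟨l, hl⟩ := Set.ncard_eq_one.1 hfx
    have e1 : g ∈ ({l} : Set X) := hl ▸ ⟨hg, e⟩
    have e2 : g' ∈ ({l} : Set X) := hl ▸ ⟨hg', e'⟩
    exact (Set.mem_singleton_iff.1 e1).trans (Set.mem_singleton_iff.1 e2).symm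
  obtain ⟨c, hc⟩ := Set.ncard_eq_one.1 (hT1 z hzT)
  have hzc : z • c = c := (show c ∈ fixIn (Set.univ : Set Λ) z from hc ▸ Set.mem_singleton c).2
  have hf2 : 2 ≤ Nat.card Λ := h.two_le.trans h.nfix_lt.le
  obtain ⟨p, E, hp, hE, hEc, hEp, hEt, hEs, hEcard⟩ := regular_of_unique_fixer h.two hodd hf2
    (orderOf_eq_prime (by rw [pow_two, hws]) hz1) hzc
    fun g hg => huniq _ (hTconj g trivial z hzT) z hzT c hg hzc
  refine ⟨p, E, hp, hE, hEc, hEp, hEt, hEs, hEcard, ?_⟩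
  intro v₁ v₂ hv1 hv1' hv2 hv2' hne hcomm hc12 hc13 x hx1 hx2
  have hv3 : v₁ * v₂ * (v₁ * v₂) = 1 := by
    calc v₁ * v₂ * (v₁ * v₂) = v₁ * (v₂ * v₁) * v₂ := by group
      _ = (v₁ * v₁) * (v₂ * v₂) := by rw [← hcomm]; group
      _ = 1 := by rw [hv1, hv2, one_mul]
  have hv3' : v₁ * v₂ ≠ 1 := fun e => hne (by rw [eq_inv_of_mul_eq_one_left e, inv_eq_of_mul_eq_one_right hv2])
  have hx3 : (v₁ * v₂) • x = x := by rw [mul_smul, hx2, hx1]
  -- all three fix the same number of points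
  have hconjT : ∀ {g g' : X}, IsConj g g' → g ∈ T → g' ∈ T := fun hgg hg => by
    obtain ⟨k, rfl⟩ := isConj_iff.1 hgg
    exact hTconj k trivial _ hg
  have hnT : v₁ ∉ T := fun hv => hne (huniq v₁ hv v₂ (hconjT hc12 hv) x hx1 hx2)
  have hs1 : IsConj s v₁ := by
    by_contra hcon
    exact hnT ⟨hv1, hv1', hcon⟩
  have hs2 := hs1.trans hc12
  have hs3 := hs1.trans hc13
  -- the formula
  haveI := hE
  set V : Subgroup X := Subgroup.closure {v₁, v₂} with hV
  have hVmem : ∀ g, g ∈ V ↔ g = 1 ∨ g = v₁ ∨ g = v₂ ∨ g = v₁ * v₂ := by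
    intro g
    constructor
    · intro hg
      induction hg using Subgroup.closure_induction with
      | mem y hy => rcases hy with rfl | rfl <;> simp
      | one => simp
      | mul y y' _ _ iy iy' =>
        have e21 : v₂ * v₁ = v₁ * v₂ := hcomm.symm
        have e1 : v₁ * (v₁ * v₂) = v₂ := by rw [← mul_assoc, hv1, one_mul]
        have e2 : v₂ * (v₁ * v₂) = v₁ := by rw [hcomm, ← mul_assoc, hv2, one_mul]
        have e3 : v₁ * v₂ * v₁ = v₂ := by rw [mul_assoc, e21, e1]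
        have e4 : v₁ * v₂ * v₂ = v₁ := by rw [mul_assoc, hv2, mul_one]
        rcases iy with rfl | rfl | rfl | rfl <;> rcases iy' with rfl | rfl | rfl | rfl <;>
          simp [hv1, hv2, hv3, e21, e1, e2, e3, e4]
      | inv y _ iy =>
        rcases iy with rfl | rfl | rfl | rfl
        · simp
        · exact Or.inr (Or.inl (inv_eq_of_mul_eq_one_right hv1))
        · exact Or.inr (Or.inr (Or.inl (inv_eq_of_mul_eq_one_right hv2)))
        · exact Or.inr (Or.inr (Or.inr (inv_eq_of_mul_eq_one_right hv3)))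
    · rintro (rfl | rfl | rfl | rfl)
      exacts [one_mem _, Subgroup.subset_closure (Or.inl rfl), Subgroup.subset_closure (Or.inr rfl),
        mul_mem (Subgroup.subset_closure (Or.inl rfl)) (Subgroup.subset_closure (Or.inr rfl))]
  have hVx : ∀ g ∈ V, g • x = x := fun g hg => by
    rcases (hVmem g).1 hg with rfl | rfl | rfl | rfl
    exacts [one_smul X x, hx1, hx2, hx3]
  have hVcard : Nat.card V = 4 := by
    have e : (V : Set X) = {1, v₁, v₂, v₁ * v₂} := Set.ext fun g => by simp [hVmem g]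
    rw [show Nat.card V = Nat.card ↥(V : Set X) from rfl, e, Nat.card_coe_set_eq]
    rw [Set.ncard_insert_of_notMem (by simp [hv1'.symm, hv2'.symm, hv3'.symm]) (Set.toFinite _),
      Set.ncard_insert_of_notMem (by simp [hne, hv2']) (Set.toFinite _),
      Set.ncard_pair (fun e => hv1' (right_eq_mul.1 e))]
  have hVexp : ∀ g ∈ V, g ^ 2 = 1 := fun g hg => by
    rw [pow_two]
    rcases (hVmem g).1 hg with rfl | rfl | rfl | rfl
    exacts [one_mul 1, hv1, hv2, hv3]
  have hVab : IsMulCommutative V := ⟨⟨fun g g' => Subtype.ext (by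
    have e1 := hVexp _ (mul_mem g.2 g'.2)
    rw [pow_two] at e1
    show (g : X) * g' = g' * g
    calc (g : X) * g' = ((g : X) * g')⁻¹ := (inv_eq_of_mul_eq_one_right e1).symm
      _ = g' * g := by
        rw [mul_inv_rev, inv_eq_of_mul_eq_one_right (by rw [← pow_two]; exact hVexp _ g'.2),
          inv_eq_of_mul_eq_one_right (by rw [← pow_two]; exact hVexp _ g.2)])⟩⟩
  have hEodd : Odd (Nat.card E) := hEcard ▸ hodd
  haveI : Fact (Nat.Prime 2) := ⟨Nat.prime_two⟩
  have hform := Fusion.fixed_formula (p := 2) (A := V) (K := E) hVab (by rw [hVcard]; norm_num) hVexp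
    (by rw [Subgroup.normalizer_eq_top_iff.2 hE]; exact le_top)
    (by rw [hVcard, show 4 = 2 ^ 2 from rfl]; exact Nat.Coprime.pow_left 2 hEodd.coprime_two_left)
  -- fixed points of the parts
  have hfixcard : ∀ S : Set X, (∀ g ∈ S, g • x = x) → Nat.card ↥(E ⊓ Subgroup.centralizer S) =
      {y : Λ | ∀ g ∈ S, g • y = y}.ncard := by
    intro S hS
    rw [← SetLike.coe_sort_coe, Nat.card_coe_set_eq]
    refine Set.ncard_congr (fun r _ => r • x) ?_ ?_ ?_
    · intro r hr g hg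
      rw [smul_smul, Subgroup.mem_centralizer_iff.1 hr.2 g hg, mul_smul, hS g hg]
    · intro r r' hr hr' e
      exact (inv_mul_eq_one.1 (hEs x (r'⁻¹ * r) (mul_mem (inv_mem hr'.1) hr.1)
        (by rw [mul_smul, e, inv_smul_smul]))).symm
    · intro y hy
      haveI := hEt
      obtain ⟨r, hr⟩ := exists_smul_eq E x y
      refine ⟨r, ⟨r.2, Subgroup.mem_centralizer_iff.2 fun g hg => ?_⟩, hr⟩
      have h1 : ((r : X))⁻¹ * (g * r * g⁻¹) ∈ E := mul_mem (inv_mem r.2) (hE.conj_mem _ r.2 g)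
      have h2 := hEs x _ h1 (by
        rw [mul_smul, mul_smul, mul_smul, inv_smul_eq_iff.2 (hS g hg).symm, show (r : X) • x = y from hr,
          hy g hg, inv_smul_eq_iff]
        exact hr.symm)
      exact mul_inv_eq_iff_eq_mul.1 (inv_mul_eq_one.1 h2).symm
  have hsing : ∀ g ∈ ({v₁, v₂, v₁ * v₂} : Finset X),
      Nat.card ↥(E ⊓ Subgroup.centralizer ({g} : Set X)) = nfix Λ s := by
    intro g hg
    simp only [Finset.mem_insert, Finset.mem_singleton] at hg
    have hgs : IsConj s g ∧ g • x = x := by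
      rcases hg with rfl | rfl | rfl
      exacts [⟨hs1, hx1⟩, ⟨hs2, hx2⟩, ⟨hs3, hx3⟩]
    rw [hfixcard _ (by rintro g' rfl; exact hgs.2), ← h.nfix_of_conj hgs.1]
    exact congrArg Set.ncard (Set.ext fun y => by simp [fixIn])
  have hall : Nat.card ↥(E ⊓ Subgroup.centralizer (V : Set X)) = 1 := by
    rw [hfixcard _ hVx, Set.ncard_eq_one]
    refine ⟨x, Set.ext fun y => ⟨fun hy => ?_, ?_⟩⟩
    · by_contra hyx
      exact hne (h.stab_unique (Ne.symm hyx) hv1' hx1 (hy v₁ ((hVmem _).2 (by simp))) hv2' hx2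
        (hy v₂ ((hVmem _).2 (by simp))))
    · rintro rfl
      exact hVx
  have hnon : Fusion.nonId V = {v₁, v₂, v₁ * v₂} := by
    ext g
    rw [Fusion.mem_nonId, hVmem]
    simp only [Finset.mem_insert, Finset.mem_singleton]
    constructor
    · rintro ⟨e, hne'⟩
      exact e.resolve_left hne'
    · rintro (rfl | rfl | rfl)
      exacts [⟨by simp, hv1'⟩, ⟨by simp, hv2'⟩, ⟨by simp, hv3'⟩]
  rw [hnon, Finset.prod_congr rfl hsing, Finset.prod_const, hall, hEcard, hf] at hform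
  have h3 : ({v₁, v₂, v₁ * v₂} : Finset X).card = 3 := Finset.card_eq_three.2
    ⟨v₁, v₂, v₁ * v₂, hne, fun e => hv2' (left_eq_mul.1 e), fun e => hv1' (right_eq_mul.1 e), rfl⟩
  rw [h3] at hform
  norm_num at hform
  have h4 : nfix Λ s * nfix Λ s * nfix Λ s = nfix Λ s * nfix Λ s * 1 := by linarith [pow_succ (nfix Λ s) 2]
  have := Nat.eq_of_mul_eq_mul_left (Nat.mul_pos (by omega) (by omega)) h4
  omega

end Pair2

end Cfsg.Agent.TwoA5
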