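import Mathlib

/-!
Counting in a subgroup that is doubly transitive on an invariant set of points.
-/

set_option autoImplicit false
set_option linter.style.haveILetI false
set_option linter.unusedSectionVars false

namespace Cfsg.Agent.TwoA5

open MulAction

variable {G : Type*} [Group G] {Ω : Type*} [MulAction G Ω]

/-- The points of `F` fixed by `g`. -/
def fixIn (F : Set Ω) (g : G) : Set Ω := {x | x ∈ F ∧ g • x = x}

theorem mem_fixIn {F : Set Ω} {g : G} {x : Ω} : x ∈ fixIn F g ↔ x ∈ F ∧ g • x = x := Iff.rfl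

/-- Orbit and stabiliser inside a subgroup. -/
theorem card_orb [Finite G] (L : Subgroup G) (O : Set Ω) {b : Ω}
    (inv : ∀ g ∈ L, g • b ∈ O) (tr : ∀ x ∈ O, ∃ g ∈ L, g • b = x) :
    Nat.card L = O.ncard * Nat.card ↥(L ⊓ stabilizer G b) := by
  classical
  choose k hk1 hk2 using fun x : O => tr x.1 x.2
  rw [← Nat.card_coe_set_eq, ← Nat.card_prod]
  refine (Nat.card_eq_of_bijective (fun p : O × ↥(L ⊓ stabilizer G b) =>
    (⟨k p.1 * (p.2 : G), L.mul_mem (hk1 p.1) p.2.2.1⟩ : L)) ⟨?_, fun g => ?_⟩).symm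
  · rintro ⟨x, d⟩ ⟨x', d'⟩ e
    have e0 : k x * (d : G) = k x' * (d' : G) := congrArg Subtype.val e
    have e1 := congrArg (· • b) e0
    simp only [mul_smul, show (d : G) • b = b from d.2.2, show (d' : G) • b = b from d'.2.2, hk2] at e1
    obtain rfl : x = x' := Subtype.ext e1
    exact Prod.ext rfl (Subtype.ext (mul_left_cancel e0))
  · refine ⟨(⟨(g : G) • b, inv g g.2⟩, ⟨(k ⟨(g : G) • b, inv g g.2⟩)⁻¹ * g, ?_, ?_⟩), Subtype.ext ?_⟩
    · exact L.mul_mem (L.inv_mem (hk1 _)) g.2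
    · show ((k _)⁻¹ * (g : G)) • b = b
      rw [mul_smul, inv_smul_eq_iff, hk2]
    · exact mul_inv_cancel_left _ _

/-- `L` is doubly transitive on the invariant set `F`. -/
structure TwoOn (L : Subgroup G) (F : Set Ω) : Prop where
  inv : ∀ g ∈ L, ∀ x ∈ F, g • x ∈ F
  two : ∀ x ∈ F, ∀ y ∈ F, ∀ z ∈ F, ∀ w ∈ F, x ≠ y → z ≠ w → ∃ g ∈ L, g • x = z ∧ g • y = w

namespace TwoOn

variable {L : Subgroup G} {F : Set Ω} (h : TwoOn L F)

include h

theorem tr {a b x : Ω} (ha : a ∈ F) (hb : b ∈ F) (hab : a ≠ b) (hx : x ∈ F) : ∃ g ∈ L, g • a = x := by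
  by_cases he : a = x
  · exact ⟨1, L.one_mem, by rw [one_smul, he]⟩
  · obtain ⟨g, hg, h1, -⟩ := h.two a ha b hb x hx a ha hab (Ne.symm he)
    exact ⟨g, hg, h1⟩

theorem card_eq [Finite G] [Finite Ω] {a b : Ω} (ha : a ∈ F) (hb : b ∈ F) (hab : a ≠ b) :
    Nat.card L = F.ncard * Nat.card ↥(L ⊓ stabilizer G a) :=
  card_orb L F (fun g hg => h.inv g hg a ha) fun _ hx => h.tr ha hb hab hx

theorem card_stab [Finite G] [Finite Ω] {a b : Ω} (ha : a ∈ F) (hb : b ∈ F) (hab : a ≠ b) :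
    Nat.card ↥(L ⊓ stabilizer G a) =
      (F.ncard - 1) * Nat.card ↥(L ⊓ stabilizer G a ⊓ stabilizer G b) := by
  rw [← Set.ncard_sdiff_singleton_of_mem ha]
  refine card_orb _ _ (fun g hg => ⟨h.inv g hg.1 b hb, fun e => ?_⟩) fun x hx => ?_
  · have hga : g • a = a := hg.2
    exact hab (smul_left_cancel g (hga.trans (Set.mem_singleton_iff.1 e).symm))
  · obtain ⟨g, hg, h1, h2⟩ := h.two a ha b hb a ha x hx.1 hab (Ne.symm hx.2)
    exact ⟨g, ⟨hg, h1⟩, h2⟩

variable [Finite G] [Finite Ω]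

/-- The number of pairs incident with a member of an invariant set of group elements. -/
theorem count_pairs {T : Set G} (hT : ∀ k ∈ L, ∀ g ∈ T, k * g * k⁻¹ ∈ T) (R : G → Ω → Ω → Prop)
    (hR : ∀ (k g : G) (x y : Ω), R g x y → R (k * g * k⁻¹) (k • x) (k • y))
    {v : ℕ} (hv : ∀ g ∈ T, {q : Ω × Ω | q.1 ∈ F ∧ q.2 ∈ F ∧ q.1 ≠ q.2 ∧ R g q.1 q.2}.ncard = v)
    {a b : Ω} (ha : a ∈ F) (hb : b ∈ F) (hab : a ≠ b) :
    T.ncard * v = (F.ncard * F.ncard - F.ncard) * {g | g ∈ T ∧ R g a b}.ncard := by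
  classical
  haveI := Fintype.ofFinite G
  haveI := Fintype.ofFinite Ω
  have hpair : ∀ x ∈ F, ∀ y ∈ F, x ≠ y → {g | g ∈ T ∧ R g x y}.ncard = {g | g ∈ T ∧ R g a b}.ncard := by
    intro x hx y hy hxy
    obtain ⟨k, hk, h1, h2⟩ := h.two a ha b hb x hx y hy hab hxy
    symm
    refine Set.ncard_congr (fun g _ => k * g * k⁻¹) ?_ ?_ ?_
    · rintro g ⟨hg, hgr⟩
      exact ⟨hT k hk g hg, by rw [← h1, ← h2]; exact hR k g a b hgr⟩
    · intro g g' _ _ e
      exact mul_left_cancel (mul_right_cancel e)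
    · rintro g ⟨hg, hgr⟩
      refine ⟨k⁻¹ * g * k, ⟨?_, ?_⟩, by group⟩
      · have := hT k⁻¹ (L.inv_mem hk) g hg
        rwa [inv_inv] at this
      · have := hR k⁻¹ g x y hgr
        rwa [inv_inv, ← h1, ← h2, inv_smul_smul, inv_smul_smul] at this
  have key := Finset.sum_card_bipartiteAbove_eq_sum_card_bipartiteBelow
    (fun (g : G) (q : Ω × Ω) => R g q.1 q.2) (s := T.toFinset) (t := F.toFinset.offDiag)
  have hA : ∀ g ∈ T.toFinset,
      (F.toFinset.offDiag.bipartiteAbove (fun (g : G) (q : Ω × Ω) => R g q.1 q.2) g).card = v := fun g hg => by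
    rw [← hv g (Set.mem_toFinset.1 hg), Set.ncard_eq_toFinset_card']
    congr 1
    ext q
    simp [Finset.bipartiteAbove, and_assoc]
  have hB : ∀ q ∈ F.toFinset.offDiag, (T.toFinset.bipartiteBelow (fun (g : G) (q : Ω × Ω) => R g q.1 q.2) q).card =
      {g | g ∈ T ∧ R g a b}.ncard := fun q hq => by
    obtain ⟨h1, h2, h3⟩ := Finset.mem_offDiag.1 hq
    rw [← hpair _ (Set.mem_toFinset.1 h1) _ (Set.mem_toFinset.1 h2) h3, Set.ncard_eq_toFinset_card']
    congr 1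
    ext g
    simp [Finset.bipartiteBelow]
  rw [Finset.sum_congr rfl hA, Finset.sum_congr rfl hB, Finset.sum_const, Finset.sum_const, smul_eq_mul,
    smul_eq_mul, Finset.offDiag_card, ← Set.ncard_eq_toFinset_card', ← Set.ncard_eq_toFinset_card'] at key
  exact key

/-- Counting fixed pairs. -/
theorem count_fixed {T : Set G} (hT : ∀ k ∈ L, ∀ g ∈ T, k * g * k⁻¹ ∈ T) {u : ℕ}
    (hu : ∀ g ∈ T, (fixIn F g).ncard = u) {a b : Ω} (ha : a ∈ F) (hb : b ∈ F) (hab : a ≠ b) :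
    T.ncard * (u * u - u) = (F.ncard * F.ncard - F.ncard) * {g | g ∈ T ∧ g • a = a ∧ g • b = b}.ncard := by
  classical
  haveI := Fintype.ofFinite Ω
  refine h.count_pairs hT (fun g x y => g • x = x ∧ g • y = y) ?_ (fun g hg => ?_) ha hb hab
  · rintro k g x y ⟨h1, h2⟩
    constructor <;> rw [mul_smul, mul_smul, inv_smul_smul] <;> [rw [h1]; rw [h2]]
  · rw [← hu g hg, Set.ncard_eq_toFinset_card', Set.ncard_eq_toFinset_card', ← Finset.offDiag_card]
    congr 1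
    ext q
    simp only [Set.mem_toFinset, Set.mem_ofPred_eq, Finset.mem_offDiag, mem_fixIn]
    tauto

/-- Counting interchanged pairs. -/
theorem count_swaps {T : Set G} (hT : ∀ k ∈ L, ∀ g ∈ T, k * g * k⁻¹ ∈ T) (hTL : ∀ g ∈ T, g ∈ L)
    (hinv : ∀ g ∈ T, ∀ x ∈ F, g • g • x = x) {u : ℕ}
    (hu : ∀ g ∈ T, (fixIn F g).ncard = u) {a b : Ω} (ha : a ∈ F) (hb : b ∈ F) (hab : a ≠ b) :
    T.ncard * (F.ncard - u) =
      (F.ncard * F.ncard - F.ncard) * {g | g ∈ T ∧ g • a = b ∧ g • b = a}.ncard := by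
  classical
  haveI := Fintype.ofFinite Ω
  refine h.count_pairs hT (fun g x y => g • x = y ∧ g • y = x) ?_ (fun g hg => ?_) ha hb hab
  · rintro k g x y ⟨h1, h2⟩
    constructor <;> rw [mul_smul, mul_smul, inv_smul_smul] <;> [rw [h1]; rw [h2]]
  · rw [← hu g hg, ← Set.ncard_sdiff (fun x hx => hx.1)]
    refine Set.ncard_congr (fun q _ => q.1) ?_ ?_ ?_
    · rintro ⟨x, y⟩ ⟨hx, -, hxy, h1, -⟩
      exact ⟨hx, fun hf => hxy (hf.2.symm.trans h1)⟩
    · rintro ⟨x, y⟩ ⟨x', y'⟩ ⟨-, -, -, h1, -⟩ ⟨-, -, -, h1', -⟩ e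
      simp only at e h1 h1'
      rw [← h1, ← h1', e]
    · rintro x ⟨hx, hnf⟩
      exact ⟨(x, g • x), ⟨hx, h.inv g (hTL g hg) x hx, fun e => hnf ⟨hx, e.symm⟩, rfl, hinv g hg x hx⟩, rfl⟩

/-- An invariant set of elements, `h` for each pair, each fixing one point: `h` for each point. -/
theorem fixers {T : Set G} (hT : ∀ k ∈ L, ∀ g ∈ T, k * g * k⁻¹ ∈ T) (hTL : ∀ g ∈ T, g ∈ L)
    (hinv : ∀ g ∈ T, ∀ x ∈ F, g • g • x = x) (hu : ∀ g ∈ T, (fixIn F g).ncard = 1)
    {a b : Ω} (ha : a ∈ F) (hb : b ∈ F) (hab : a ≠ b) {x : Ω} (hx : x ∈ F) :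
    {g | g ∈ T ∧ g • x = x}.ncard = {g | g ∈ T ∧ g • a = b ∧ g • b = a}.ncard := by
  classical
  haveI := Fintype.ofFinite G
  haveI := Fintype.ofFinite Ω
  have hc := h.count_swaps hT hTL hinv hu ha hb hab
  have h2 : 2 ≤ F.ncard := (Set.one_lt_ncard_iff F.toFinite).2 ⟨a, b, ha, hb, hab⟩
  rw [← Nat.mul_sub_one, mul_right_comm] at hc
  have hcard := Nat.eq_of_mul_eq_mul_right (by omega) hc
  have hpt : ∀ y ∈ F, {g | g ∈ T ∧ g • y = y}.ncard = {g | g ∈ T ∧ g • x = x}.ncard := by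
    intro y hy
    by_cases hyx : x = y
    · rw [hyx]
    obtain ⟨k, hk, hkx⟩ := h.tr hx hy hyx hy
    symm
    refine Set.ncard_congr (fun g _ => k * g * k⁻¹) ?_ ?_ ?_
    · rintro g ⟨hg, hgf⟩
      exact ⟨hT k hk g hg, by rw [← hkx, mul_smul, mul_smul, inv_smul_smul, hgf]⟩
    · intro g g' _ _ e
      exact mul_left_cancel (mul_right_cancel e)
    · rintro g ⟨hg, hgf⟩
      refine ⟨k⁻¹ * g * k, ⟨?_, ?_⟩, by group⟩
      · have := hT k⁻¹ (L.inv_mem hk) g hg
        rwa [inv_inv] at this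
      · rw [mul_smul, mul_smul, hkx, hgf, ← hkx, inv_smul_smul]
  have key := Finset.sum_card_bipartiteAbove_eq_sum_card_bipartiteBelow
    (fun (g : G) (y : Ω) => g • y = y) (s := T.toFinset) (t := F.toFinset)
  have hA : ∀ g ∈ T.toFinset, (F.toFinset.bipartiteAbove (fun (g : G) (y : Ω) => g • y = y) g).card = 1 :=
    fun g hg => by
    rw [← hu g (Set.mem_toFinset.1 hg), Set.ncard_eq_toFinset_card']
    congr 1
    ext q
    rw [Set.mem_toFinset, mem_fixIn]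
    simp [Finset.bipartiteAbove]
  have hB : ∀ y ∈ F.toFinset, (T.toFinset.bipartiteBelow (fun (g : G) (y : Ω) => g • y = y) y).card =
      {g | g ∈ T ∧ g • x = x}.ncard := fun y hy => by
    rw [← hpt y (Set.mem_toFinset.1 hy), Set.ncard_eq_toFinset_card']
    congr 1
    ext g
    simp [Finset.bipartiteBelow]
  rw [Finset.sum_congr rfl hA, Finset.sum_congr rfl hB, Finset.sum_const, Finset.sum_const, smul_eq_mul,
    smul_eq_mul, mul_one, ← Set.ncard_eq_toFinset_card', ← Set.ncard_eq_toFinset_card', hcard] at key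
  exact (Nat.eq_of_mul_eq_mul_left (by omega) key).symm

end TwoOn

/-- An involutive map on a finite set fixes as many points as its size, modulo two. -/
theorem fixIn_parity [Finite Ω] {F : Set Ω} {g : G} (hinv : ∀ x ∈ F, g • g • x = x)
    (hF : ∀ x ∈ F, g • x ∈ F) : (fixIn F g).ncard % 2 = F.ncard % 2 := by
  classical
  haveI := Fintype.ofFinite Ω
  have he : ((F \ fixIn F g).toFinset.card : ZMod 2) = 0 := by
    rw [← nsmul_one, ← Finset.sum_const]
    refine Finset.sum_involution (fun x _ => g • x) (fun x _ => by decide) (fun x hx _ => ?_) (fun x hx => ?_)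
      fun x hx => ?_
    · have h1 := Set.mem_toFinset.1 hx
      exact fun e => h1.2 ⟨h1.1, e⟩
    · have h1 := Set.mem_toFinset.1 hx
      refine Set.mem_toFinset.2 ⟨hF x h1.1, fun h2 => h1.2 ⟨h1.1, ?_⟩⟩
      exact (smul_left_cancel g h2.2)
    · exact hinv x (Set.mem_toFinset.1 hx).1
  rw [ZMod.natCast_eq_zero_iff_even, ← Set.ncard_eq_toFinset_card', Set.ncard_sdiff (fun x hx => hx.1)] at he
  have hle : (fixIn F g).ncard ≤ F.ncard := Set.ncard_le_ncard (fun x hx => hx.1)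
  obtain ⟨r, hr⟩ := he
  omega

/-- Equal counts of fixed and interchanged pairs. -/
theorem fixed_swap_eq {t f u h m : ℕ} (huf : u ≤ f) (hu : 2 ≤ u) (h1 : t * (u * u - u) = (f * f - f) * h)
    (h2 : t * (f - u) = (f * f - f) * m) : (f - u) * h = m * (u * u - u) := by
  have hp : 0 < f * f - f := by
    have : 2 * f ≤ f * f := Nat.mul_le_mul_right f (by omega)
    omega
  refine Nat.eq_of_mul_eq_mul_left hp ?_
  calc (f * f - f) * ((f - u) * h) = (f - u) * ((f * f - f) * h) := by ring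
    _ = (f - u) * (t * (u * u - u)) := by rw [h1]
    _ = (t * (f - u)) * (u * u - u) := by ring
    _ = _ := by rw [h2]; ring

end Cfsg.Agent.TwoA5
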