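import Mathlib
import Cfsg.Agent.Lib.Perm.AltAut

/-!
Facts about `A₅` and the odd permutations of five points.
-/

set_option autoImplicit false

namespace Cfsg.Agent.TwoA5

open Equiv Equiv.Perm

/-- The alternating group on five points. -/
abbrev AF : Type := ↥(alternatingGroup (Fin 5))

/-- `(0 1)(2 3)`. -/
def t0 : AF := ⟨swap 0 1 * swap 2 3, Equiv.Perm.mem_alternatingGroup.2 (by decide)⟩

/-- `(0 2)(1 3)`. -/
def s0 : AF := ⟨swap 0 2 * swap 1 3, Equiv.Perm.mem_alternatingGroup.2 (by decide)⟩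

/-- `(1 2 3)`. -/
def c0 : AF := ⟨swap 1 3 * swap 1 2, Equiv.Perm.mem_alternatingGroup.2 (by decide)⟩

/-- `(0 1)`. -/
def tau0 : Perm (Fin 5) := swap 0 1

theorem t0_sq : t0 * t0 = 1 := by decide
theorem s0_sq : s0 * s0 = 1 := by decide
theorem ts_sq : t0 * s0 * (t0 * s0) = 1 := by decide
theorem ts_comm : t0 * s0 = s0 * t0 := by decide
theorem t0_ne : t0 ≠ 1 := by decide
theorem s0_ne : s0 ≠ 1 := by decide
theorem ts_ne : t0 * s0 ≠ 1 := by decide
theorem t0_ne_s0 : t0 ≠ s0 := by decide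

theorem inv_conj : ∀ x : AF, x * x = 1 → x ≠ 1 → ∃ h : AF, h * t0 * h⁻¹ = x := by decide +kernel

theorem cent_t0 : ∀ x : AF, x * t0 = t0 * x → x = 1 ∨ x = t0 ∨ x = s0 ∨ x = t0 * s0 := by decide +kernel

theorem center_eq : ∀ x : AF, (∀ y : AF, x * y = y * x) → x = 1 := by decide +kernel

theorem card_invol : ({x : AF | x * x = 1 ∧ x ≠ 1} : Finset AF).card = 15 := by decide +kernel

theorem card_odd_invol : ({x : AF | (tau0 * (x : Perm (Fin 5))) * (tau0 * (x : Perm (Fin 5))) = 1} : Finset AF).card = 10 := by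
  decide +kernel

theorem odd_inv_conj : ∀ x : AF, (tau0 * (x : Perm (Fin 5))) * (tau0 * (x : Perm (Fin 5))) = 1 →
    ∃ h : AF, (h : Perm (Fin 5)) * tau0 * (h : Perm (Fin 5))⁻¹ = tau0 * x := by
  decide +kernel

theorem tau_t0 : tau0 * (t0 : Perm (Fin 5)) * tau0⁻¹ = t0 := by decide
theorem tau_s0 : tau0 * (s0 : Perm (Fin 5)) * tau0⁻¹ = (t0 : Perm (Fin 5)) * s0 := by decide
theorem tau_sq : tau0 * tau0 = 1 := by decide

/-- Conjugation by a permutation. -/
def cj (σ : Perm (Fin 5)) : MulAut AF := MulAut.conjNormal σ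

theorem cj_val (σ : Perm (Fin 5)) (x : AF) : (cj σ x : Perm (Fin 5)) = σ * x * σ⁻¹ := rfl

theorem aut_eq_cj (α : MulAut AF) : ∃ σ : Perm (Fin 5), α = cj σ :=
  Cfsg.Agent.Perm.AltAut.exists_perm_of_ne_six (by norm_num) (by norm_num) α

end Cfsg.Agent.TwoA5
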