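import Cfsg.Agent.Lib.Perm.TwoA5.Setup

/-!
Odd degree: the cases in which the two-point stabiliser is centralised by a swapping involution.
-/

set_option autoImplicit false
set_option linter.style.haveILetI false
set_option linter.unusedSectionVars false

open Cfsg

namespace Cfsg.Agent.TwoA5

open MulAction Equiv

namespace Data

variable {G : Type*} [Group G] [Finite G] {Ω : Type*} [MulAction G Ω] [Finite Ω] [FaithfulSMul G Ω]
variable (D : Data G Ω)

/-- Fifteen swapping conjugates: a regular normal subgroup. -/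
theorem fifteen_case (hn : Odd (Nat.card Ω)) (hσ : D.σ = 1) (hm : D.m = 15) (h0 : ¬ IsConj D.t D.g0) :
    ∃ N : Subgroup G, N.Normal ∧ IsPretransitive ↥N Ω ∧ ∀ x : Ω, ∀ r ∈ N, r • x = x → r = 1 := by
  classical
  set T : Set G := {g | IsConj D.g0 g} with hT
  have hTconj : ∀ k ∈ (⊤ : Subgroup G), ∀ g ∈ T, k * g * k⁻¹ ∈ T := fun k _ g hg =>
    IsConj.trans hg (isConj_iff.2 ⟨k, rfl⟩)
  have hg01 : D.g0 ≠ 1 := fun e => D.ne (by have := D.g0_a; rwa [e, one_smul] at this)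
  have hTsq : ∀ g ∈ T, g * g = 1 ∧ g ≠ 1 := by
    intro g hg
    obtain ⟨k, rfl⟩ := isConj_iff.1 hg
    exact ⟨by rw [show k * D.g0 * k⁻¹ * (k * D.g0 * k⁻¹) = k * (D.g0 * D.g0) * k⁻¹ by group, D.g0_sq]; group,
      fun e => hg01 (conj_eq_one_iff.1 e)⟩
  have hone : ∀ g ∈ T, (fixIn (Set.univ : Set Ω) g).ncard = 1 := by
    intro g hg
    have hp := fixIn_parity (F := (Set.univ : Set Ω)) (fun x _ => smul_smul_of_sq (hTsq g hg).1 x)
      fun _ _ => Set.mem_univ _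
    rw [Set.ncard_univ, Nat.odd_iff.1 hn] at hp
    by_contra hne
    obtain ⟨y, z, hy, hz, hyz⟩ := (Set.one_lt_ncard_iff (Set.toFinite _)).1
      (show 1 < (fixIn (Set.univ : Set Ω) g).ncard by omega)
    exact h0 ((D.conj_of_two_fixed (hTsq g hg).1 (hTsq g hg).2 hyz hy.2 hz.2).trans hg.symm)
  -- the fifteen conjugates of `t`
  set S : Set G := {g | IsConj D.t g ∧ g • D.a = D.b ∧ g • D.b = D.a} with hS
  set I : Set G := (fun x => D.g0 * D.φ x) '' (({x : AF | x * x = 1 ∧ x ≠ 1} : Finset AF) : Set AF) with hI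
  have hSI : S ⊆ I := by
    rintro g ⟨hg, ha, hb⟩
    obtain ⟨x, rfl⟩ := D.swapper ha hb
    refine ⟨x, ?_, rfl⟩
    have h2 := (D.sq_iff x).1 (D.sq_of_conj hg).1
    rw [hσ, one_mul] at h2
    simp only [Finset.coe_filter, Finset.mem_univ, true_and, Set.mem_ofPred_eq]
    exact ⟨Subtype.ext h2, fun e => h0 (by simpa [e] using hg)⟩
  have hIcard : I.ncard = 15 := by
    rw [hI, Set.ncard_image_of_injective _ (fun x y e => D.inj (mul_left_cancel e)), Set.ncard_coe_finset,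
      card_invol]
  have hSeq : S = I := Set.eq_of_subset_of_ncard_le hSI (by rw [hIcard]; exact le_of_eq hm.symm) (Set.toFinite _)
  have hsw : {g | g ∈ T ∧ g • D.a = D.b ∧ g • D.b = D.a}.ncard = 1 := by
    refine Set.ncard_eq_one.2 ⟨D.g0, Set.ext fun g => ⟨fun hg => ?_, ?_⟩⟩
    · obtain ⟨x, rfl⟩ := D.swapper hg.2.1 hg.2.2
      by_contra hne
      have h2 := (D.sq_iff x).1 (hTsq _ hg.1).1
      rw [hσ, one_mul] at h2
      have hxI : D.g0 * D.φ x ∈ S := hSeq.symm ▸ ⟨x, by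
        simp only [Finset.coe_filter, Finset.mem_univ, true_and, Set.mem_ofPred_eq]
        exact ⟨Subtype.ext h2, fun e => hne (by rw [e, map_one, mul_one]; rfl)⟩, rfl⟩
      exact h0 (hxI.1.trans (hg.1 : IsConj D.g0 _).symm)
    · intro e
      rw [Set.mem_singleton_iff] at e
      subst e
      exact ⟨IsConj.refl _, D.g0_a, D.g0_b⟩
  obtain ⟨c, hc⟩ := Set.ncard_eq_one.1 (hone D.g0 (IsConj.refl _))
  have hcz : D.g0 • c = c := (show c ∈ fixIn (Set.univ : Set Ω) D.g0 from hc ▸ Set.mem_singleton c).2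
  have huniq : ∀ g : G, (g * D.g0 * g⁻¹) • c = c → g * D.g0 * g⁻¹ = D.g0 := by
    intro g hg
    have hfx := (twoOn_top D.two).fixers hTconj (fun _ _ => trivial)
      (fun g hg x _ => smul_smul_of_sq (hTsq g hg).1 x) hone (Set.mem_univ D.a) (Set.mem_univ D.b) D.ne
      (Set.mem_univ c)
    rw [hsw] at hfx
    obtain ⟨l, hl⟩ := Set.ncard_eq_one.1 hfx
    have e1 : g * D.g0 * g⁻¹ ∈ ({l} : Set G) := hl ▸ ⟨hTconj g trivial _ (IsConj.refl _), hg⟩
    have e2 : D.g0 ∈ ({l} : Set G) := hl ▸ ⟨IsConj.refl _, hcz⟩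
    exact (Set.mem_singleton_iff.1 e1).trans (Set.mem_singleton_iff.1 e2).symm
  have hn2 : 2 ≤ Nat.card Ω := D.two_le_f.trans D.f_lt.le
  obtain ⟨p, A, -, hA, -, -, hAt, hAs, -⟩ := regular_of_unique_fixer D.two hn hn2
    (orderOf_eq_prime (by rw [pow_two, D.g0_sq]) hg01) hcz huniq
  exact ⟨A, hA, hAt, hAs⟩

/-- A swapping conjugate of `t` centralising the two-point stabiliser is impossible in odd degree. -/
theorem central_case (hn : Odd (Nat.card Ω)) (hσ : D.σ = 1) (h0 : IsConj D.t D.g0) : False := by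
  classical
  obtain ⟨k, hk⟩ := isConj_iff.1 h0.symm
  have hcomm : ∀ z : AF, D.g0 * D.φ z = D.φ z * D.g0 := fun z => by
    have e := D.g0_conj z
    have e1 : cj D.σ z = z := Subtype.ext (by rw [cj_val, hσ]; simp)
    rw [e1] at e
    exact mul_inv_eq_iff_eq_mul.1 e
  let ψ : AF →* D.C := ((MulAut.conj k).toMonoidHom.comp D.φ).codRestrict D.C fun x =>
    Subgroup.mem_centralizer_singleton_iff.2 (by
      show k * D.φ x * k⁻¹ * D.t = D.t * (k * D.φ x * k⁻¹)
      rw [← hk]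
      calc k * D.φ x * k⁻¹ * (k * D.g0 * k⁻¹) = k * (D.φ x * D.g0) * k⁻¹ := by group
        _ = _ := by rw [← hcomm]; group)
  let θ : AF →* D.twoC.img := D.twoC.toImg.comp ψ
  have hψinj : Function.Injective ψ := fun x y e => D.inj (mul_left_cancel
    (mul_right_cancel (congrArg Subtype.val e : k * D.φ x * k⁻¹ = k * D.φ y * k⁻¹)))
  haveI := alternatingGroup.isSimpleGroup_five
  have hθ : Function.Injective θ := by
    refine (MonoidHom.ker_eq_bot_iff θ).1 ((θ.normal_ker).eq_bot_or_eq_top.resolve_right fun e => ?_)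
    have hsub : Set.range (fun x => ((ψ x : D.C) : G)) ⊆ (D.V : Set G) := by
      rintro _ ⟨x, rfl⟩
      have h1 := D.twoC.toImg_eq_one.1 (show D.twoC.toImg (ψ x) = 1 from
        MonoidHom.mem_ker.1 (e ▸ Subgroup.mem_top x : x ∈ θ.ker))
      exact D.mem_V.2 (D.C_stab (ψ x).2 (h1 _ D.a_mem) (h1 _ D.b_mem))
    have h4 := Set.ncard_le_ncard hsub (Set.toFinite _)
    rw [← Nat.card_coe_set_eq, Nat.card_range_of_injective (fun x y e => hψinj (Subtype.ext e)),
      nat_card_alternatingGroup, Nat.card_eq_fintype_card, Fintype.card_fin, ← Nat.card_coe_set_eq,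
      SetLike.coe_sort_coe, D.card_V] at h4
    norm_num [Nat.factorial] at h4
  have hF : Odd (Nat.card D.Ft) := by
    rw [D.card_Ft, Nat.odd_iff, ← D.parity]
    exact Nat.odd_iff.1 hn
  set v₁ := θ t0
  set v₂ := θ s0
  have hv1 : v₁ * v₁ = 1 := by rw [← map_mul, t0_sq, map_one]
  have hv2 : v₂ * v₂ = 1 := by rw [← map_mul, s0_sq, map_one]
  have hv1' : v₁ ≠ 1 := fun e => t0_ne (hθ (e.trans (map_one θ).symm))
  have hv2' : v₂ ≠ 1 := fun e => s0_ne (hθ (e.trans (map_one θ).symm))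
  have hne : v₁ ≠ v₂ := fun e => t0_ne_s0 (hθ e)
  have hvc : v₁ * v₂ = v₂ * v₁ := by rw [← map_mul, ts_comm, map_mul]
  -- a common fixed point
  obtain ⟨x, hx1, hx2⟩ : ∃ x : D.Ft, v₁ • x = x ∧ v₂ • x = x := by
    have hp := fixIn_parity (F := (Set.univ : Set D.Ft)) (fun x _ => smul_smul_of_sq hv1 x) fun _ _ => Set.mem_univ _
    rw [Set.ncard_univ, Nat.odd_iff.1 hF] at hp
    have hp2 := fixIn_parity (F := fixIn (Set.univ : Set D.Ft) v₁) (g := v₂) (fun x _ => smul_smul_of_sq hv2 x)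
      fun x hx => ⟨trivial, by rw [smul_smul, hvc, mul_smul, hx.2]⟩
    rw [hp] at hp2
    obtain ⟨x, hx⟩ := Set.nonempty_of_ncard_ne_zero
      (show (fixIn (fixIn (Set.univ : Set D.Ft) v₁) v₂).ncard ≠ 0 by omega)
    exact ⟨x, hx.1.2, hx.2⟩
  rcases D.u_le_f.eq_or_lt with h | h
  · exact hne (sharp_unique D.twoC.img_two hF (D.img_sharp h) hv1 hv1' hv2 hv2' hx1 hx2)
  · obtain ⟨-, p, E, -, -, -, -, -, -, -, hno⟩ := (D.pair2 h).odd_structure hF
    refine hno v₁ v₂ hv1 hv1' hv2 hv2' hne hvc (isConj_iff.2 ⟨θ c0, ?_⟩)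
      (isConj_iff.2 ⟨θ (c0 * c0), ?_⟩) x hx1 hx2
    · rw [← map_inv, ← map_mul, ← map_mul, show c0 * t0 * c0⁻¹ = s0 by decide]
    · rw [← map_inv, ← map_mul, ← map_mul, show c0 * c0 * t0 * (c0 * c0)⁻¹ = t0 * s0 by decide, map_mul]

end Data

end Cfsg.Agent.TwoA5
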