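import Cfsg.Agent.Lib.Perm.TwoA5.Even
import Cfsg.Agent.Lib.Perm.TwoA5.OddClass
import Cfsg.Agent.Lib.Perm.TwoA5.OddKernel
import Cfsg.Agent.Lib.Small.MathieuEleven.Iso

/-!
Doubly transitive groups with two-point stabiliser `A₅`: seven or twelve points.
-/

set_option autoImplicit false
set_option linter.style.haveILetI false

open Cfsg

namespace Cfsg.Agent.TwoA5

open MulAction

variable {G : Type*} [Group G] [Finite G] {Ω : Type*} [Fintype Ω] [MulAction G Ω] [FaithfulSMul G Ω]

/-- Seven or twelve points. -/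
theorem card_cases (D : Data G Ω)
    (hnr : ∀ N : Subgroup G, N.Normal → IsPretransitive ↥N Ω → (∀ x : Ω, stabilizer ↥N x = ⊥) → False) :
    Nat.card Ω = 7 ∨ Nat.card Ω = 12 := by
  rcases Nat.even_or_odd (Nat.card Ω) with h | h
  · exact Or.inr (D.even_case h)
  left
  rcases D.m_cases with ⟨hσ, hm, hc⟩ | ⟨hσ, hm, h0⟩ | ⟨hσ, -, h0⟩
  · rcases D.u_le_f.eq_or_lt with hu | hu
    · exact D.dihedral_case h hσ hm hc hu
    · exact (D.square_case h hσ hm hu).elim
  · obtain ⟨N, hN, hNt, hNs⟩ := D.fifteen_case h hσ hm h0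
    exact (hnr N hN hNt fun x => (Subgroup.eq_bot_iff_forall _).2 fun r hr => Subtype.ext (hNs x r r.2 hr)).elim
  · exact (D.central_case h hσ h0).elim

/-- On twelve points the group is simple. -/
theorem simple_twelve (D : Data G Ω) (h12 : Nat.card Ω = 12)
    (hnr : ∀ N : Subgroup G, N.Normal → IsPretransitive ↥N Ω → (∀ x : Ω, stabilizer ↥N x = ⊥) → False) :
    IsSimpleGroup G := by
  classical
  haveI h2 : IsMultiplyPretransitive G Ω 2 :=
    is_two_pretransitive_iff.2 fun {x₁ x₂ y₁ y₂} hx hy => D.two _ _ _ _ hx hy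
  haveI : IsPretransitive G Ω := isPretransitive_of_is_two_pretransitive
  haveI : IsPreprimitive G Ω := isPreprimitive_of_is_two_pretransitive h2
  haveI : Fact (Nat.Prime 11) := ⟨by norm_num⟩
  haveI : Nontrivial G := ⟨⟨D.t, 1, D.t_ne⟩⟩
  refine ⟨fun M hM => or_iff_not_imp_left.2 fun hM1 => ?_⟩
  haveI := hM
  haveI hMt : IsPretransitive M Ω := Cfsg.Agent.Perm.normal_isPretransitive M hM1
  obtain ⟨x, hx⟩ : ∃ x : Ω, stabilizer ↥M x ≠ ⊥ := by
    by_contra hno
    push Not at hno
    exact hnr M hM hMt hno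
  -- a nontrivial element fixing the base point
  obtain ⟨m, hm, hm1, hma⟩ : ∃ m ∈ M, m ≠ 1 ∧ m • D.a = D.a := by
    obtain ⟨r, hr, hr1⟩ := (Subgroup.bot_or_exists_ne_one _).resolve_left hx
    obtain ⟨g, rfl⟩ := exists_smul_eq G D.a x
    refine ⟨g⁻¹ * r * g, by simpa using hM.conj_mem (r : G) r.2 g⁻¹,
      fun e => hr1 (Subtype.ext ?_), ?_⟩
    · calc (r : G) = g * (g⁻¹ * r * g) * g⁻¹ := by group
        _ = 1 := by rw [e]; group
    · rw [mul_smul, mul_smul, inv_smul_eq_iff]
      exact hr
  set A := stabilizer G D.a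
  have hA : Nat.card A = 660 := by rw [D.card_stab, h12]
  set MA := M ⊓ A
  have hMAconj : ∀ g ∈ A, ∀ y ∈ MA, g * y * g⁻¹ ∈ MA := fun g hg y hy =>
    ⟨hM.conj_mem y hy.1 g, A.mul_mem (A.mul_mem hg hy.2) (A.inv_mem hg)⟩
  -- it is transitive on the other points
  have h11 : 11 ∣ Nat.card MA := by
    obtain ⟨y, hy⟩ : ∃ y : Ω, m • y ≠ y := exists_moved hm1
    have hya : y ≠ D.a := fun e => hy (e ▸ hma)
    obtain ⟨g, hga, hgy⟩ := D.two D.a y D.a D.b hya.symm D.ne
    set m' := g * m * g⁻¹
    have hm' : m' ∈ MA := hMAconj g hga m ⟨hm, hma⟩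
    have hm'b : m' • D.b ≠ D.b := fun e => hy (by
      rw [← hgy, mul_smul, mul_smul, inv_smul_smul] at e
      exact smul_left_cancel g e)
    -- the orbits of `MA` on the other points are all of one size
    haveI : Fintype (orbit MA D.b) := Fintype.ofFinite _
    have horb : ∀ z : Ω, z ≠ D.a → Nat.card (orbit MA z) = Nat.card (orbit MA D.b) := by
      intro z hz
      obtain ⟨g, hga, hgb⟩ := D.two D.a D.b D.a z D.ne (Ne.symm hz)
      refine (Nat.card_congr ((MulAction.toPerm g).subtypeEquiv fun w => ?_)).symm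
      constructor
      · rintro ⟨r, rfl⟩
        refine ⟨⟨g * r * g⁻¹, hMAconj g hga r r.2⟩, ?_⟩
        show (g * (r : G) * g⁻¹) • z = g • (r : G) • D.b
        rw [← hgb, mul_smul, mul_smul, inv_smul_smul]
      · rintro ⟨r, hr⟩
        have hr' : (r : G) • z = g • w := hr
        refine ⟨⟨g⁻¹ * r * g, by simpa using hMAconj g⁻¹ (inv_mem hga) r r.2⟩, ?_⟩
        show (g⁻¹ * (r : G) * g) • D.b = w
        rw [mul_smul, mul_smul, hgb, hr', inv_smul_smul]
    have hinv : ∀ (r : MA) (z : Ω), z ≠ D.a → (r : G) • z ≠ D.a := fun r z hz e =>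
      hz (smul_left_cancel (r : G) (e.trans (show (r : G) • D.a = D.a from r.2.2).symm))
    -- count the other points by orbits
    let S : Set Ω := {z | z ≠ D.a}
    have hS : S.ncard = 11 := by
      rw [show S = ({D.a} : Set Ω)ᶜ from rfl, Set.ncard_compl, Set.ncard_singleton, h12]
    have hk : Nat.card (orbit MA D.b) ∣ 11 := by
      rw [← hS]
      have : ∀ T : Set Ω, (∀ (r : MA), ∀ z ∈ T, (r : G) • z ∈ T) → T ⊆ S → Nat.card (orbit MA D.b) ∣ T.ncard := by
        intro T
        induction h : T.ncard using Nat.strong_induction_on generalizing T with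
        | _ k ih =>
          intro hT hTS
          rcases T.eq_empty_or_nonempty with rfl | ⟨z, hz⟩
          · rw [Set.ncard_empty] at h; subst h; exact dvd_zero _
          have hsub : orbit MA z ⊆ T := by rintro _ ⟨r, rfl⟩; exact hT r z hz
          have hpos : 0 < (orbit MA z).ncard := (Set.ncard_pos (Set.toFinite _)).2 ⟨z, mem_orbit_self z⟩
          have hle : (orbit MA z).ncard ≤ T.ncard := Set.ncard_le_ncard hsub (Set.toFinite _)
          have hd := Set.ncard_sdiff hsub (Set.toFinite _)
          have h1 := ih (T \ orbit MA z).ncard (by omega) (T \ orbit MA z) rfl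
            (fun r w hw => ⟨hT r w hw.1, fun hw' => hw.2 ?_⟩) fun w hw => hTS hw.1
          · have h2 : Nat.card (orbit MA D.b) ∣ (orbit MA z).ncard := by
              rw [← Nat.card_coe_set_eq, horb z (hTS hz)]
            rw [← h, show T.ncard = (T \ orbit MA z).ncard + (orbit MA z).ncard by omega]
            exact dvd_add h1 h2
          · obtain ⟨r', hr'⟩ := hw'
            refine ⟨r⁻¹ * r', ?_⟩
            show (r⁻¹ * r') • z = w
            rw [mul_smul, show r' • z = (r : G) • w from hr', inv_smul_eq_iff]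
            rfl
      exact this S (fun r z hz => hinv r z hz) le_rfl
    have hk1 : Nat.card (orbit MA D.b) ≠ 1 := fun e => hm'b (by
      obtain ⟨hs, -⟩ := Nat.card_eq_one_iff_unique.1 e
      exact congrArg Subtype.val (hs.elim ⟨m' • D.b, ⟨⟨m', hm'⟩, rfl⟩⟩ ⟨D.b, mem_orbit_self D.b⟩))
    rcases (Nat.dvd_prime (by norm_num : Nat.Prime 11)).1 hk with h | h
    · exact absurd h hk1
    · rw [← h, Nat.card_congr (orbitEquivQuotientStabilizer MA D.b)]
      exact Subgroup.index_dvd_card _
  -- it contains the two-point stabiliser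
  have hH : ∀ z, D.φ z ∈ MA := by
    let ψ : AF →* A := D.φ.codRestrict A fun z => D.φa z
    haveI : (MA.subgroupOf A).Normal := ⟨fun y hy g => hMAconj g g.2 y hy⟩
    let θ : AF →* A ⧸ MA.subgroupOf A := (QuotientGroup.mk' _).comp ψ
    haveI := alternatingGroup.isSimpleGroup_five
    rcases (θ.normal_ker).eq_bot_or_eq_top with e | e
    · exfalso
      have h1 := Subgroup.card_dvd_of_injective θ ((MonoidHom.ker_eq_bot_iff θ).1 e)
      rw [nat_card_alternatingGroup, Nat.card_eq_fintype_card, Fintype.card_fin, ← Subgroup.index_eq_card] at h1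
      have h2 := (MA.subgroupOf A).index_mul_card
      rw [hA, Nat.card_congr (Subgroup.subgroupOfEquivOfLe (inf_le_right : MA ≤ A)).toEquiv] at h2
      obtain ⟨d, hd⟩ := h11
      obtain ⟨i, hi⟩ := h1
      rw [hd, hi] at h2
      norm_num [Nat.factorial] at h2
      have hid : i * d = 1 := by nlinarith
      have hd1 : d = 1 := Nat.eq_one_of_mul_eq_one_left hid
      rw [hd1, mul_one] at hd
      -- a normal subgroup of order eleven: the two-point stabiliser embeds in its cyclic automorphism group
      haveI : IsCyclic MA := isCyclic_of_prime_card hd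
      let α : AF →* MulAut MA :=
        { toFun := fun z =>
            { toFun := fun y => ⟨D.φ z * y * (D.φ z)⁻¹, hMAconj _ (D.φa z) y y.2⟩
              invFun := fun y => ⟨D.φ z⁻¹ * y * (D.φ z⁻¹)⁻¹, hMAconj _ (D.φa z⁻¹) y y.2⟩
              left_inv := fun y => Subtype.ext (by simp only [map_inv]; group)
              right_inv := fun y => Subtype.ext (by simp only [map_inv]; group)
              map_mul' := fun y y' => Subtype.ext (by simp only [Subgroup.coe_mul]; group) }
          map_one' := MulEquiv.ext fun y => Subtype.ext (by simp)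
          map_mul' := fun z z' => MulEquiv.ext fun y => Subtype.ext (by
            show D.φ (z * z') * y * (D.φ (z * z'))⁻¹ = D.φ z * (D.φ z' * y * (D.φ z')⁻¹) * (D.φ z)⁻¹
            rw [map_mul]; group) }
      haveI := alternatingGroup.isSimpleGroup_five
      have hcen : ∀ z : AF, ∀ y ∈ MA, D.φ z * y = y * D.φ z := by
        rcases (α.normal_ker).eq_bot_or_eq_top with e' | e'
        · exfalso
          have h3 := Nat.card_le_card_of_injective α ((MonoidHom.ker_eq_bot_iff α).1 e')
          rw [IsCyclic.card_mulAut, hd, nat_card_alternatingGroup, Nat.card_eq_fintype_card, Fintype.card_fin,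
            Nat.totient_prime (by norm_num)] at h3
          norm_num [Nat.factorial] at h3
        · intro z y hy
          have h4 := congrArg Subtype.val (DFunLike.congr_fun
            (MonoidHom.mem_ker.1 (e' ▸ Subgroup.mem_top z : z ∈ α.ker)) (⟨y, hy⟩ : MA))
          exact mul_inv_eq_iff_eq_mul.1 (h4 : D.φ z * y * (D.φ z)⁻¹ = y)
      obtain ⟨y, hy⟩ := exists_prime_orderOf_dvd_card' (G := MA) 11 (by rw [hd])
      -- it would be semiregular on the other points and centralised by the stabiliser of `b`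
      have hall : ∀ z : Ω, ∀ w : AF, D.φ w • z = z := by
        intro z w
        by_cases hza : z = D.a
        · rw [hza]; exact D.φa w
        have horbit : z ∈ orbit MA D.b := by
          by_contra hno
          have hsub : (orbit MA D.b) ⊆ ({D.a, z} : Set Ω)ᶜ := by
            rintro _ ⟨r, rfl⟩ (e | e)
            · exact D.ne (smul_left_cancel (r : G) ((show (r : G) • D.a = D.a from r.2.2).trans e.symm))
            · exact hno ⟨r, e⟩
          have h5 := Set.ncard_le_ncard hsub (Set.toFinite _)
          rw [Set.ncard_compl, Set.ncard_pair (Ne.symm hza), h12, ← Nat.card_coe_set_eq,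
            Nat.card_congr (orbitEquivQuotientStabilizer MA D.b)] at h5
          have h6 : Nat.card (MA ⧸ stabilizer MA D.b) ∣ 11 := by
            rw [← hd]; exact Subgroup.index_dvd_card _
          rcases (Nat.dvd_prime (by norm_num : Nat.Prime 11)).1 h6 with h7 | h7
          · -- everything fixes `b`, hence by conjugation every point
            have htop : stabilizer MA D.b = ⊤ := Subgroup.index_eq_one.1 h7
            refine hm1 (eq_of_smul_eq_smul fun w : Ω => ?_)
            rw [one_smul]
            by_cases hwa : w = D.a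
            · rw [hwa, hma]
            obtain ⟨g, hga, hgb⟩ := D.two D.a D.b D.a w D.ne (Ne.symm hwa)
            have h8 : (⟨g⁻¹ * m * g, by simpa using hMAconj g⁻¹ (inv_mem hga) m ⟨hm, hma⟩⟩ : MA) ∈
                stabilizer MA D.b := htop ▸ Subgroup.mem_top _
            have h9 : (g⁻¹ * m * g) • D.b = D.b := h8
            rwa [mul_smul, mul_smul, hgb, inv_smul_eq_iff, hgb] at h9
          · rw [h7] at h5; norm_num at h5
        obtain ⟨r, rfl⟩ := horbit
        show D.φ w • (r : G) • D.b = (r : G) • D.b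
        rw [smul_smul, hcen w r r.2, mul_smul, D.φb]
      exact D.φ_ne t0_ne (eq_of_smul_eq_smul fun z : Ω => by rw [one_smul, hall z t0])
    · intro z
      have h1 : ψ z ∈ MA.subgroupOf A := by
        rw [← QuotientGroup.eq_one_iff]
        exact MonoidHom.mem_ker.1 (e ▸ Subgroup.mem_top z : z ∈ θ.ker)
      exact h1
  -- so it is the whole point stabiliser
  have h60 : 60 ∣ Nat.card MA := by
    have := Subgroup.card_dvd_of_injective (D.φ.codRestrict MA hH) fun x y e => D.inj (congrArg Subtype.val e)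
    rwa [nat_card_alternatingGroup, Nat.card_eq_fintype_card, Fintype.card_fin,
      show Nat.factorial 5 / 2 = 60 from rfl] at this
  have hMA : MA = A := Subgroup.eq_of_le_of_card_ge inf_le_right (by
    have := Nat.le_of_dvd Nat.card_pos (Nat.Coprime.mul_dvd_of_dvd_of_dvd (by norm_num : Nat.Coprime 60 11) h60 h11)
    omega)
  refine eq_top_iff.2 fun g _ => ?_
  obtain ⟨r, hr⟩ := exists_smul_eq M D.a (g • D.a)
  have hr' : (r : G) • D.a = g • D.a := hr
  have : (r : G)⁻¹ * g ∈ A := by
    show ((r : G)⁻¹ * g) • D.a = D.a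
    rw [mul_smul, inv_smul_eq_iff, hr']
  rw [← hMA] at this
  simpa using mul_mem r.2 this.1

/-- The theorem. -/
theorem classify (two : ∀ a b c d : Ω, a ≠ b → c ≠ d → ∃ g : G, g • a = c ∧ g • b = d) {a b : Ω} (hab : a ≠ b)
    (hnr : ∀ N : Subgroup G, N.Normal → IsPretransitive ↥N Ω → (∀ x : Ω, stabilizer ↥N x = ⊥) → False)
    (e : ↥(stabilizer G a ⊓ stabilizer G b) ≃* AF) :
    (Fintype.card Ω = 7 ∧ Nonempty (G ≃* ↥(alternatingGroup (Fin 7)))) ∨
      (Fintype.card Ω = 12 ∧ Cfsg.Spor.IsoM11 G) := by
  classical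
  obtain ⟨D⟩ := exists_data two hab e
  rcases card_cases D hnr with h | h
  · refine Or.inl ⟨by rwa [Nat.card_eq_fintype_card] at h, ?_⟩
    have hG : Nat.card G = 2520 := by rw [D.card_G, h]
    let eΩ : Ω ≃ Fin 7 := Fintype.equivFinOfCardEq (by rwa [Nat.card_eq_fintype_card] at h)
    let ρ : G →* Equiv.Perm (Fin 7) := eΩ.permCongrHom.toMonoidHom.comp (MulAction.toPermHom G Ω)
    have hρ : Function.Injective ρ := fun x y hxy => by
      have h1 : MulAction.toPermHom G Ω x = MulAction.toPermHom G Ω y := eΩ.permCongrHom.injective hxy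
      exact eq_of_smul_eq_smul fun z : Ω => DFunLike.congr_fun h1 z
    have hidx : ρ.range.index = 2 := by
      have h1 := ρ.range.index_mul_card
      rw [← Nat.card_congr (MonoidHom.ofInjective hρ).toEquiv, hG, Nat.card_perm, Nat.card_eq_fintype_card,
        Fintype.card_fin, show Nat.factorial 7 = 2 * 2520 from rfl] at h1
      exact Nat.eq_of_mul_eq_mul_right (by norm_num) h1
    exact ⟨(MonoidHom.ofInjective hρ).trans
      (MulEquiv.subgroupCongr (Equiv.Perm.eq_alternatingGroup_of_index_eq_two hidx))⟩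
  · refine Or.inr ⟨by rwa [Nat.card_eq_fintype_card] at h, ?_⟩
    have hG : Nat.card G = 7920 := by rw [D.card_G, h]
    exact MathieuEleven.iso_of_isM11 ⟨simple_twelve D h hnr, hG⟩ MathieuEleven.isM11_concrete

end Cfsg.Agent.TwoA5
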